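import Groth.Agent.Lib.FunFldRH25.Points
import Groth.Agent.Lib.GeomFF26.DegreeOne
import Groth.Agent.Lib.GeomFF26.SepPlace
import Groth.Agent.Lib.FunField.Ext

/-!
# Points of a constant field extension

`N_j(K') = N_{mj}(K)` for a constant field extension of degree `m`.
-/

set_option autoImplicit false

namespace Groth.Agent.FunFldRH25

open Polynomial FunFld FunField WithZero
open scoped IntermediateField Multiplicative

universe u v u' v' w

section general

variable {k : Type u} {K : Type v} [Field k] [Field K] [Algebra k K]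
variable {kb : Type w} [Field kb] [Algebra k kb]

theorem Pt.ext_val {π π' : Pt k K kb} (h1 : π.1 = π'.1)
    (h2 : ∀ y, π.1.1 y ≤ 1 → π.val y = π'.val y) : π = π' := by
  obtain ⟨P, φ⟩ := π
  obtain ⟨P', φ'⟩ := π'
  obtain rfl : P = P' := h1
  refine Sigma.ext rfl (heq_of_eq (AlgHom.ext fun r => ?_))
  obtain ⟨y, rfl⟩ := Ideal.Quotient.mk_surjective r
  have := h2 y y.2
  rwa [Pt.val_eq _ y.2, Pt.val_eq (⟨P, φ'⟩ : Pt k K kb) y.2] at this

variable [IsAlgClosed kb] [Algebra.IsAlgebraic k kb]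

/-- A homomorphism on a subring, killing a non-zero element, comes from a point. -/
theorem exists_pt_of_hom (hF : FF k K) {A : Type*} [CommRing A] [Algebra k A] (Φ : A →ₐ[k] K)
    (hΦ : Function.Injective Φ) (χ : A →ₐ[k] kb) (w : A) (hw : χ w = 0) (hw0 : w ≠ 0) :
    ∃ π : Pt k K kb, ∀ a, π.1.1 (Φ a) ≤ 1 ∧ π.val (Φ a) = χ a := by
  classical
  let e : A ≃+* Φ.toRingHom.range := RingEquiv.ofBijective Φ.toRingHom.rangeRestrict
    ⟨fun s t h => hΦ (congrArg Subtype.val h), Φ.toRingHom.rangeRestrict_surjective⟩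
  let χ' : Φ.toRingHom.range →+* kb := χ.toRingHom.comp e.symm.toRingHom
  obtain ⟨V, hAV, hxV⟩ := Ideal.image_subset_nonunits_valuationSubring _ (RingHom.ker_ne_top χ')
  have hmemV : ∀ t, Φ t ∈ V := fun t => hAV ⟨t, rfl⟩
  have hk : ∀ r : k, algebraMap k K r ∈ V := fun r => Φ.commutes r ▸ hmemV (algebraMap k A r)
  have hker' : ∀ t, χ t = 0 → Φ t ∈ V.nonunits := fun t ht => hxV ⟨e t, by
    rw [SetLike.mem_coe, RingHom.mem_ker]
    show χ (e.symm (e t)) = 0
    rw [e.symm_apply_apply]; exact ht, rfl⟩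
  have hVF : ¬ IsField V := by
    intro hF'
    have hne : Φ w ≠ 0 := fun e0 => hw0 (hΦ (e0.trans (map_zero Φ).symm))
    have hwn := hker' w hw
    obtain ⟨b, hb⟩ := hF'.mul_inv_cancel (a := (⟨Φ w, hmemV w⟩ : V)) (fun e0 => hne (congrArg Subtype.val e0))
    rw [ValuationSubring.mem_nonunits_iff] at hwn
    have h1 : Φ w * (b : K) = 1 := congrArg Subtype.val hb
    have h2 := congrArg V.valuation h1
    rw [map_mul, map_one] at h2
    have h3 : V.valuation (b : K) ≤ 1 := (V.valuation_le_one_iff _).2 b.2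
    exact absurd h2 (lt_of_le_of_lt (mul_le_of_le_one_right' h3) hwn).ne
  obtain ⟨P, hP⟩ := hF.exists_place_of_valuationSubring V hk hVF
  haveI hfd := finite_res hF P
  let Φa : A →+* P.O := Φ.toRingHom.codRestrict P.O.toSubring fun t => by
    have := hmemV t; rw [← hP] at this; exact this
  let ρ : A →+* IsLocalRing.ResidueField P.O := (IsLocalRing.residue P.O).comp Φa
  have hkerle : ∀ t, χ t = 0 → ρ t = 0 := fun t ht => by
    have hm := hker' t ht
    rw [← hP, ValuationSubring.mem_nonunits_iff] at hm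
    refine (residue_eq_zero_iff P _).2 ?_
    show P.1 (Φ t) < 1
    exact (Valuation.isEquiv_valuation_valuationSubring P.1).lt_one_iff_lt_one.2 hm
  have hρc : ∀ r : k, ρ (algebraMap k A r) = algebraMap k (IsLocalRing.ResidueField P.O) r := fun r =>
    congrArg (IsLocalRing.residue P.O) (Subtype.ext (Φ.commutes r))
  let ρA : A →ₐ[k] IsLocalRing.ResidueField P.O := { ρ with commutes' := hρc }
  haveI : Algebra.IsIntegral k χ.range := ⟨fun s => by
    have : IsIntegral k (s : kb) := Algebra.IsIntegral.isIntegral _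
    exact (isIntegral_algHom_iff χ.range.val Subtype.val_injective).1 this⟩
  have hfield : IsField χ.range := isField_of_isIntegral_of_isField' (Field.toIsField k)
  let lift0 : χ.range →ₐ[k] IsLocalRing.ResidueField P.O :=
    (Ideal.Quotient.liftₐ (RingHom.ker χ.toRingHom) ρA (fun t ht => hkerle t ht)).comp
      (Ideal.quotientKerEquivRange χ).symm.toAlgHom
  have hlift0 : ∀ t, lift0 ⟨χ t, t, rfl⟩ = ρA t := fun t => by
    have : (Ideal.quotientKerEquivRange χ).symm ⟨χ t, t, rfl⟩ = Ideal.Quotient.mk _ t := by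
      rw [AlgEquiv.symm_apply_eq]; rfl
    simp only [lift0, AlgHom.comp_apply]
    erw [this]
    rfl
  let E : IntermediateField k kb := χ.range.toIntermediateField' hfield
  let lift1 : E →ₐ[k] IsLocalRing.ResidueField P.O :=
    lift0.comp { toFun := fun s => ⟨s.1, s.2⟩, map_one' := rfl, map_mul' := fun _ _ => rfl,
                 map_zero' := rfl, map_add' := fun _ _ => rfl, commutes' := fun _ => rfl }
  letI : Algebra E (IsLocalRing.ResidueField P.O) := lift1.toRingHom.toAlgebra
  haveI : Algebra.IsAlgebraic E (IsLocalRing.ResidueField P.O) := ⟨fun t => by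
    obtain ⟨m, hm0, hmt⟩ := (Algebra.IsAlgebraic.of_finite k (IsLocalRing.ResidueField P.O)).isAlgebraic t
    refine ⟨m.map (algebraMap k E), (Polynomial.map_ne_zero_iff (algebraMap k E).injective).2 hm0, ?_⟩
    rw [aeval_def, eval₂_map, show (algebraMap E (IsLocalRing.ResidueField P.O)).comp (algebraMap k E) =
      algebraMap k _ from RingHom.ext lift1.commutes]
    exact hmt⟩
  let φ₁ : IsLocalRing.ResidueField P.O →ₐ[E] kb := IsAlgClosed.lift
  let φ : IsLocalRing.ResidueField P.O →ₐ[k] kb := { φ₁.toRingHom with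
    commutes' := fun r => by
      rw [← lift1.commutes r]
      exact φ₁.commutes (algebraMap k E r) }
  have hφ : ∀ t, φ (ρA t) = χ t := fun t => by
    rw [← hlift0]
    exact φ₁.commutes (⟨χ t, t, rfl⟩ : E)
  refine ⟨⟨P, φ⟩, fun a => ⟨(Φa a).2, ?_⟩⟩
  rw [Pt.val_eq _ (show P.1 (Φ a) ≤ 1 from (Φa a).2)]
  exact hφ a

end general

section constExt

variable {k : Type u} {K : Type v} {k' : Type u'} {K' : Type v'} {kb : Type w}
  [Field k] [Field K] [Field k'] [Field K'] [Field kb]
  [Algebra k K] [Algebra k k'] [Algebra K K'] [Algebra k' K'] [Algebra k K']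
  [IsScalarTower k K K'] [IsScalarTower k k' K'] [FiniteDimensional K K']
  [Algebra k kb] [Algebra k' kb] [IsScalarTower k k' kb]

/-- A place over `k'` seen over `k`. -/
def dn (R : Place k' K') : Place k K' :=
  ⟨R.1, fun c => by rw [IsScalarTower.algebraMap_apply k k' K']; exact R.2.1 _, R.2.2⟩

omit [Field kb] [Algebra k K] [Algebra K K'] [IsScalarTower k K K'] [FiniteDimensional K K'] in
theorem dn_injective : Function.Injective (dn : Place k' K' → Place k K') :=
  fun _ _ e => Subtype.ext (congrArg (fun Q : Place k K' => Q.1) e)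

/-- The residue embedding over `k`. -/
noncomputable def dnHom (π : Pt k' K' kb) : IsLocalRing.ResidueField (dn (k := k) π.1).O →ₐ[k] kb :=
  { (π.2.toRingHom : IsLocalRing.ResidueField (dn (k := k) π.1).O →+* kb) with
    commutes' := fun r => by
      have h1 : algebraMap k (IsLocalRing.ResidueField (dn (k := k) π.1).O) r =
          (algebraMap k' (IsLocalRing.ResidueField π.1.O) (algebraMap k k' r) :
            IsLocalRing.ResidueField π.1.O) :=
        congrArg (IsLocalRing.residue π.1.O) (Subtype.ext (IsScalarTower.algebraMap_apply k k' K' r))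
      rw [h1, IsScalarTower.algebraMap_apply k k' kb]
      exact π.2.commutes _ }

variable (hF : FF k K)

/-- Restriction of a point. -/
noncomputable def res (π : Pt k' K' kb) : Pt k K kb :=
  ⟨under hF (dn π.1), (dnHom π).comp
    (GeomFF26.residueMap (isOverWith_ramIdx (isOver_under hF (dn (k := k) π.1))))⟩

theorem res_val (π : Pt k' K' kb) {y : K} (hy : (res hF π).1.1 y ≤ 1) :
    π.1.1 (algebraMap K K' y) ≤ 1 ∧ (res hF π).val y = π.val (algebraMap K K' y) := by
  have he := isOverWith_ramIdx (isOver_under hF (dn (k := k) π.1))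
  have hy' : (dn (k := k) π.1).1 (algebraMap K K' y) ≤ 1 := by
    rw [he y]; exact pow_le_one₀ zero_le hy
  refine ⟨hy', ?_⟩
  rw [Pt.val_eq _ hy, π.val_eq hy']
  show dnHom π (GeomFF26.residueMap he (IsLocalRing.residue _ ⟨y, hy⟩)) = _
  rw [GeomFF26.residueMap_residue he ⟨y, hy⟩ ⟨_, hy'⟩ rfl]
  rfl

variable [Finite k] [IsAlgClosed kb] [Algebra.IsAlgebraic k kb] [FiniteDimensional k k']

theorem res_surjective (hcl : ∀ y : K, IsAlgebraic k y → y ∈ Set.range (algebraMap k K)) :
    Function.Surjective (res hF : Pt k' K' kb → Pt k K kb) := by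
  intro π
  classical
  haveI : Algebra.IsSeparable k k' := Algebra.IsAlgebraic.isSeparable_of_perfectField
  let pb := Field.powerBasisOfFiniteOfSeparable k k'
  set f := minpoly k pb.gen with hfdef
  have hfm : f.Monic := minpoly.monic pb.isIntegral_gen
  set fO : π.1.O[X] := f.map (algebraMap k π.1.O) with hfO
  set θ : K' := algebraMap k' K' pb.gen with hθ
  have hθf : aeval θ f = 0 := by rw [hθ, aeval_algebraMap_apply, minpoly.aeval, map_zero]
  have hroot : fO.eval₂ ((algebraMap K K').comp π.1.O.subtype) θ = 0 := by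
    rw [hfO, eval₂_map, ← hθf, aeval_def]
    congr 1
    exact RingHom.ext fun c => (IsScalarTower.algebraMap_apply k K K' c).symm
  have hcroot : fO.eval₂ π.ev.toRingHom (algebraMap k' kb pb.gen) = 0 := by
    rw [hfO, eval₂_map, show π.ev.toRingHom.comp (algebraMap k π.1.O) = algebraMap k kb from
      RingHom.ext π.ev.commutes, ← aeval_def, aeval_algebraMap_apply, minpoly.aeval, map_zero]
  letI : Algebra k (AdjoinRoot fO) := ((AdjoinRoot.of fO).comp (algebraMap k π.1.O)).toAlgebra
  let Φ : AdjoinRoot fO →ₐ[k] K' :=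
    { AdjoinRoot.lift ((algebraMap K K').comp π.1.O.subtype) θ hroot with
      commutes' := fun c => by
        simp only [RingHom.algebraMap_toAlgebra, RingHom.toMonoidHom_eq_coe, OneHom.toFun_eq_coe,
          MonoidHom.toOneHom_coe, MonoidHom.coe_coe, RingHom.comp_apply, AdjoinRoot.lift_of]
        exact (IsScalarTower.algebraMap_apply k K K' c).symm }
  let χ : AdjoinRoot fO →ₐ[k] kb :=
    { AdjoinRoot.lift π.ev.toRingHom (algebraMap k' kb pb.gen) hcroot with
      commutes' := fun c => by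
        simp only [RingHom.algebraMap_toAlgebra, RingHom.toMonoidHom_eq_coe, OneHom.toFun_eq_coe,
          MonoidHom.toOneHom_coe, MonoidHom.coe_coe, RingHom.comp_apply, AdjoinRoot.lift_of]
        exact π.ev.commutes c }
  have hΦmk : ∀ g : π.1.O[X], Φ (AdjoinRoot.mk fO g) = g.eval₂ ((algebraMap K K').comp π.1.O.subtype) θ :=
    fun g => AdjoinRoot.lift_mk hroot g
  have hfK : fO.map π.1.O.subtype = f.map (algebraMap k K) := by
    rw [hfO, Polynomial.map_map]; rfl
  have hmin : f.map (algebraMap k K) = minpoly K θ := minpoly.eq_of_irreducible_of_monic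
    (GeomFF26.irreducible_map hcl hfm (minpoly.irreducible pb.isIntegral_gen))
    (by rw [aeval_map_algebraMap, hθf]) (hfm.map _)
  have hΦinj : Function.Injective Φ := by
    rw [injective_iff_map_eq_zero]
    intro a ha
    obtain ⟨g, rfl⟩ := AdjoinRoot.mk_surjective a
    rw [hΦmk, ← eval₂_map] at ha
    rw [AdjoinRoot.mk_eq_zero, ← Polynomial.map_dvd_map _ π.1.O.subtype_injective (hfm.map _), hfK, hmin]
    exact minpoly.dvd K θ ha
  have hfO1 : fO.natDegree ≠ 0 := by
    rw [hfO, hfm.natDegree_map]; exact (minpoly.natDegree_pos pb.isIntegral_gen).ne'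
  obtain ⟨t, ht0, ht⟩ := exists_uniformizer π.1
  have htle : π.1.1 t ≤ 1 := by rw [ht, ← exp_zero, exp_le_exp]; norm_num
  have htlt : π.1.1 t < 1 := by rw [ht, ← exp_zero, exp_lt_exp]; norm_num
  obtain ⟨π₀, hπ₀⟩ := exists_pt_of_hom (ff_extend hF) Φ hΦinj χ (AdjoinRoot.of fO ⟨t, htle⟩)
    ((AdjoinRoot.lift_of hcroot).trans ((π.ev_eq_zero _).2 htlt)) (fun e => ht0 (by
      have h1 := congrArg Φ e
      rw [map_zero] at h1
      exact (algebraMap K K').injective ((AdjoinRoot.lift_of hroot).symm.trans h1 |>.trans (map_zero _).symm)))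
  -- constants of `k'`
  have hcst : ∀ c : k', π₀.1.1 (algebraMap k' K' c) ≤ 1 := fun c => by
    rcases eq_or_ne c 0 with rfl | hc
    · simp
    · exact (val_eq_one_of_isAlgebraic π₀.1 ((Algebra.IsAlgebraic.isAlgebraic c).algebraMap)
        (by simpa using hc)).le
  let R : Place k' K' := ⟨π₀.1.1, hcst, π₀.1.2.2⟩
  let b : k' →ₐ[k] π₀.1.O :=
    { (algebraMap k' K').codRestrict π₀.1.O.toSubring hcst with
      commutes' := fun r => Subtype.ext (IsScalarTower.algebraMap_apply k k' K' r).symm }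
  have hagree : π₀.ev.comp b = IsScalarTower.toAlgHom k k' kb := by
    refine pb.algHom_ext ?_
    have h1 := (hπ₀ (AdjoinRoot.root fO)).2
    have h2 : Φ (AdjoinRoot.root fO) = θ := AdjoinRoot.lift_root hroot
    have h3 : χ (AdjoinRoot.root fO) = algebraMap k' kb pb.gen := AdjoinRoot.lift_root hcroot
    rw [h2, h3, π₀.val_eq (hcst _)] at h1
    exact h1
  let π' : Pt k' K' kb := ⟨R,
    { (π₀.2.toRingHom : IsLocalRing.ResidueField R.O →+* kb) with
      commutes' := fun c => DFunLike.congr_fun hagree c }⟩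
  refine ⟨π', ?_⟩
  have hle : ∀ y : K, π.1.1 y ≤ 1 → π₀.1.1 (algebraMap K K' y) ≤ 1 ∧
      π₀.val (algebraMap K K' y) = π.val y := fun y hy => by
    have h2 : Φ (AdjoinRoot.of fO ⟨y, hy⟩) = algebraMap K K' y := AdjoinRoot.lift_of hroot
    have h3 : χ (AdjoinRoot.of fO ⟨y, hy⟩) = π.ev ⟨y, hy⟩ := AdjoinRoot.lift_of hcroot
    obtain ⟨h4, h5⟩ := hπ₀ (AdjoinRoot.of fO ⟨y, hy⟩)
    rw [h2] at h4 h5
    exact ⟨h4, by rw [h5, h3, π.val_eq hy]⟩
  have hPP : (res hF π').1 = π.1 := (eq_of_O_le fun y hy => by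
    rw [mem_O_iff] at hy ⊢
    have he := isOverWith_ramIdx (isOver_under hF (dn (k := k) π'.1))
    have h1 := (hle y hy).1
    change (dn (k := k) π'.1).1 (algebraMap K K' y) ≤ 1 at h1
    rw [he y] at h1
    exact (pow_le_one_iff (isOverWith_pos he).ne').1 h1).symm
  refine Pt.ext_val hPP fun y hy => ?_
  obtain ⟨h1, h2⟩ := res_val hF π' hy
  rw [h2]
  have hy' : π.1.1 y ≤ 1 := hPP ▸ hy
  rw [← (hle y hy').2, Pt.val_eq _ (hle y hy').1, π'.val_eq h1]
  rfl

variable [Algebra.IsAlgebraic k' kb] [Finite k']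

theorem res_bijective (hcl : ∀ y : K, IsAlgebraic k y → y ∈ Set.range (algebraMap k K))
    (hF' : FF k' K') (hdim : Module.finrank K K' = Module.finrank k k') :
    Function.Bijective (res hF : Pt k' K' kb → Pt k K kb) := by
  classical
  refine ⟨fun a b hab => ?_, res_surjective hF hcl⟩
  set P := (res hF a).1 with hPdef
  -- the fibre over `P`
  have hfib : {R : Place k' K' | under hF (dn (k := k) R) = P}.Finite :=
    ((finite_fibre (K' := K') hF P).preimage dn_injective.injOn).subset fun R hR => (isOver_iff hF).2 hR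
  set T := hfib.toFinset
  have hT : ∀ R, R ∈ T ↔ under hF (dn (k := k) R) = P := fun R => hfib.mem_toFinset
  have hbound : ∑ R ∈ T, R.deg ≤ P.deg := by
    have hpos : 0 < Module.finrank k k' := Module.finrank_pos
    refine Nat.le_of_mul_le_mul_right ?_ hpos
    rw [Finset.sum_mul, Finset.sum_congr rfl fun R _ =>
      GeomFF26.deg_mul_finrank (k := k) (k' := k') (dn (k := k) R) R rfl]
    have hs := sum_fibre (K' := K') hF P (finite_fibre hF P).toFinset fun Q => (finite_fibre hF P).mem_toFinset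
    rw [hdim, mul_comm] at hs
    rw [← hs, show ∑ R ∈ T, (dn (k := k) R).deg = ∑ Q ∈ T.image (dn (k := k)), Q.deg from
      (Finset.sum_image fun x _ y _ e => dn_injective e).symm]
    refine le_trans (Finset.sum_le_sum fun Q hQ => ?_) (Finset.sum_le_sum_of_subset fun Q hQ => ?_)
    · obtain ⟨R, hR, rfl⟩ := Finset.mem_image.1 hQ
      obtain ⟨e, he⟩ := (isOver_iff hF).2 ((hT R).1 hR)
      exact Nat.le_mul_of_pos_left _ (by rw [ramIdx_eq he]; exact isOverWith_pos he)
    · obtain ⟨R, hR, rfl⟩ := Finset.mem_image.1 hQ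
      exact (finite_fibre hF P).mem_toFinset.2 ((isOver_iff hF).2 ((hT R).1 hR))
  haveI := fun R : Place k' K' => (finite_algHom (kb := kb) hF' R).1
  let S := {π : Pt k' K' kb // (res hF π).1 = P}
  let e : S ≃ Σ R : T, (IsLocalRing.ResidueField R.1.O →ₐ[k'] kb) :=
    { toFun := fun π => ⟨⟨π.1.1, (hT _).2 π.2⟩, π.1.2⟩
      invFun := fun s => ⟨⟨s.1.1, s.2⟩, (hT _).1 s.1.2⟩
      left_inv := fun _ => rfl
      right_inv := fun _ => rfl }
  haveI : Finite S := Finite.of_equiv _ e.symm
  have hcard : Nat.card S ≤ Nat.card (IsLocalRing.ResidueField P.O →ₐ[k] kb) := by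
    rw [(finite_algHom hF P).2, Nat.card_congr e, Nat.card_sigma,
      Finset.sum_congr rfl fun R _ => (finite_algHom hF' R.1).2]
    exact (le_of_eq (Finset.sum_coe_sort T fun R => R.deg)).trans hbound
  haveI := (finite_algHom (kb := kb) hF P).1
  let T' := {π : Pt k K kb // π.1 = P}
  let e' : T' ≃ (IsLocalRing.ResidueField P.O →ₐ[k] kb) :=
    { toFun := fun π => π.2 ▸ π.1.2
      invFun := fun φ => ⟨⟨P, φ⟩, rfl⟩
      left_inv := fun ⟨⟨P', φ⟩, h⟩ => by
        change P' = P at h
        subst h; rfl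
      right_inv := fun _ => rfl }
  haveI : Finite T' := Finite.of_equiv _ e'.symm
  let r : S → T' := fun π => ⟨res hF π.1, π.2⟩
  have hr : Function.Surjective r := fun ⟨π, hπ⟩ => by
    obtain ⟨π', h'⟩ := res_surjective (kb := kb) hF hcl (k' := k') (K' := K') π
    exact ⟨⟨π', by rw [h']; exact hπ⟩, Subtype.ext h'⟩
  have hrb : Function.Bijective r := hr.bijective_of_nat_card_le (by rw [Nat.card_congr e']; exact hcard)
  exact congrArg Subtype.val (hrb.1 (a₁ := ⟨a, rfl⟩) (a₂ := ⟨b, by rw [← hab]⟩) (Subtype.ext hab))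

end constExt

/-- `N_j(K') = N_{mj}(K)`. -/
theorem npts_constExt {k : Type u} {K : Type v} {k' : Type u'} {K' : Type v'}
    [Field k] [Finite k] [Field K] [Algebra k K] [Field k'] [Finite k'] [Field K'] [Algebra k k']
    [Algebra K K'] [Algebra k' K'] (hK : IsFunctionField k K) (hK' : IsFunctionField k' K')
    (hce : IsConstExt k K k' K') {j : ℕ} (hj : j ≠ 0) :
    npts k' K' j = npts k K (Module.finrank k k' * j) := by
  classical
  obtain ⟨hcomm, -, hdim⟩ := hce
  letI : Algebra k K' := ((algebraMap K K').comp (algebraMap k K)).toAlgebra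
  haveI : IsScalarTower k K K' := IsScalarTower.of_algebraMap_eq fun _ => rfl
  haveI : IsScalarTower k k' K' := IsScalarTower.of_algebraMap_eq fun c => hcomm c
  haveI : Module.Finite k k' := Module.Finite.of_finite
  have hpos : 0 < Module.finrank k k' := Module.finrank_pos
  haveI : FiniteDimensional K K' := Module.finite_of_finrank_pos (hdim ▸ hpos)
  let kb := AlgebraicClosure k'
  haveI : Algebra.IsAlgebraic k k' := Algebra.IsAlgebraic.of_finite k k'
  haveI : Algebra.IsAlgebraic k kb := Algebra.IsAlgebraic.trans k k' kb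
  have hF := ff hK
  have hF' := ff hK'
  have hbij := res_bijective (kb := kb) hF hK.2 hF' hdim
  obtain ⟨-, h1⟩ := card_pts (kb := kb) hF' hj
  obtain ⟨-, h2⟩ := card_pts (kb := kb) hF (Nat.mul_ne_zero hpos.ne' hj)
  rw [← h1, ← h2]
  have hQ : Nat.card k ^ (Module.finrank k k' * j) = Nat.card k' ^ j := by
    rw [pow_mul, ← Module.natCard_eq_pow_finrank]
  have hiff : ∀ π : Pt k' K' kb, (res (k := k) hF π).1.deg ∣ Module.finrank k k' * j ↔ π.1.deg ∣ j := by
    intro π
    rw [← fixed_iff hF, ← fixed_iff hF', hQ]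
    refine ⟨fun h y => ?_, fun h y => h _⟩
    obtain ⟨Fr, hFr⟩ := exists_frob (k := k') (kb := kb) j
    have hval : ∀ z, π.1.1 z ≤ 1 → Pt.val (⟨π.1, Fr.comp π.2⟩ : Pt k' K' kb) z = π.val z ^ Nat.card k' ^ j :=
      fun z hz => by rw [Pt.val_eq (⟨π.1, Fr.comp π.2⟩ : Pt k' K' kb) hz, π.val_eq hz]; exact hFr _
    have heq : (⟨π.1, Fr.comp π.2⟩ : Pt k' K' kb) = π := by
      refine hbij.1 (Pt.ext_val rfl fun z hz => ?_)
      obtain ⟨hz1, hz2⟩ := res_val hF π (y := z) hz
      rw [(res_val hF (⟨π.1, Fr.comp π.2⟩ : Pt k' K' kb) hz).2, hval _ hz1, ← hz2,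
        Pt.val_eq _ (show (res (k := k) hF π).1.1 z ≤ 1 from hz)]
      exact h _
    have h3 : Fr.comp π.2 = π.2 := eq_of_heq (Sigma.ext_iff.1 heq).2
    conv_rhs => rw [← h3]
    exact (hFr _).symm
  exact Nat.card_congr ((Equiv.ofBijective _ hbij).subtypeEquiv fun π => (hiff π).symm)

end Groth.Agent.FunFldRH25
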