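import Groth.Agent.Lib.LangWeil25.Count
import Groth.Agent.Lib.LangWeil25.Special
import Groth.Agent.Lib.LangWeil25.Setup
import Mathlib.FieldTheory.IsAlgClosed.AlgebraicClosure
import Mathlib.FieldTheory.Minpoly.IsIntegrallyClosed
import Mathlib.FieldTheory.Minpoly.IsConjRoot

/-!
# Points of a curve dominated by a Galois covering of the line

`h(x, z) = 0` is dominated by the Galois covering `g(x, y) = 0` by `z = U(x, y) / δ(x)`. Then it
has `Q + O(√Q)` points with coordinates fixed by the `Q`-th power map.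
-/

set_option autoImplicit false

universe u v

namespace Groth.Agent.FunFldRH25

open Polynomial LangWeil25

/-- The homogenisation of `p` at `(r, δ)`. -/
noncomputable def scl {R S : Type*} [CommSemiring R] [CommSemiring S] (f : R →+* S) (p : R[X]) (δ r : S)
    (E : ℕ) : S :=
  ∑ n ∈ Finset.range (E + 1), f (p.coeff n) * r ^ n * δ ^ (E - n)

theorem map_scl {R S T : Type*} [CommSemiring R] [CommSemiring S] [CommSemiring T] (θ : S →+* T)
    (f : R →+* S) (p : R[X]) (δ r : S) (E : ℕ) :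
    θ (scl f p δ r E) = scl (θ.comp f) p (θ δ) (θ r) E := by
  simp [scl, map_sum, map_mul, map_pow]

theorem scl_eq {R F : Type*} [CommSemiring R] [Field F] (f : R →+* F) (p : R[X]) {δ : F} (hδ : δ ≠ 0) (r : F)
    {E : ℕ} (hE : p.natDegree ≤ E) : scl f p δ r E = δ ^ E * p.eval₂ f (r / δ) := by
  rw [scl, eval₂_eq_sum_range' f (n := E + 1) (by omega), Finset.mul_sum]
  refine Finset.sum_congr rfl fun n hn => ?_
  have hn' := Finset.mem_range.1 hn
  rw [show δ ^ E = δ ^ (E - n) * δ ^ n from by rw [← pow_add, Nat.sub_add_cancel (by omega)], div_pow]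
  field_simp

variable {K : Type u} [Field K]

/-- The coefficients of `p` are fixed by the `Q`-th power map. -/
def Fix (Q : ℕ) (p : K[X][X]) : Prop := ∀ n j, ((p.coeff n).coeff j) ^ Q = (p.coeff n).coeff j

theorem frob_eval {p n Q : ℕ} [Fact p.Prime] [CharP K p] (hQ : Q = p ^ n) {q : K[X]}
    (hq : ∀ j, q.coeff j ^ Q = q.coeff j) {a : K} (ha : a ^ Q = a) : q.eval a ^ Q = q.eval a := by
  haveI : ExpChar K p := ExpChar.prime Fact.out
  have hφ : ∀ x : K, iterateFrobenius K p n x = x ^ Q := fun x => by rw [hQ]; exact iterateFrobenius_def ..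
  rw [← hφ, eval_eq_sum, Polynomial.sum, map_sum]
  exact Finset.sum_congr rfl fun j _ => by rw [map_mul, map_pow, hφ, hφ, hq, ha]

theorem frob_eval₂ {p n Q : ℕ} [Fact p.Prime] [CharP K p] (hQ : Q = p ^ n) {q : K[X][X]}
    (hq : Fix Q q) {a : K} (ha : a ^ Q = a) (b : K) :
    (q.eval₂ (evalRingHom a) b) ^ Q = q.eval₂ (evalRingHom a) (b ^ Q) := by
  haveI : ExpChar K p := ExpChar.prime Fact.out
  have hφ : ∀ x : K, iterateFrobenius K p n x = x ^ Q := fun x => by rw [hQ]; exact iterateFrobenius_def ..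
  rw [← hφ, hom_eval₂, hφ, eval₂_eq_sum, eval₂_eq_sum]
  refine Finset.sum_congr rfl fun i _ => ?_
  refine congrArg (· * _) ?_
  simp only [RingHom.comp_apply, coe_evalRingHom, hφ]
  exact frob_eval hQ (hq i) ha

variable [IsAlgClosed K]

/-- The estimate. -/
theorem card_estimate (g : K[X][X]) (hg : g.Monic) (hirr : Irreducible g) (hder : derivative g ≠ 0)
    {Ω' : Type v} [Field Ω'] (τ' : K[X] →+* Ω') (β' : Ω') (hgdvd : ∀ q : K[X][X], q.eval₂ τ' β' = 0 ↔ g ∣ q)
    (δ : K[X]) (hδ0 : δ ≠ 0) (P : Fin g.natDegree → K[X][X]) (i₀ : Fin g.natDegree)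
    (hroots' : C (τ' δ ^ g.natDegree) * g.map τ' = ∏ i, (C (τ' δ) * X - C ((P i).eval₂ τ' β')))
    (hi₀ : P i₀ = C δ * X) (U h : K[X][X]) (hh : h.Monic) (hhder : derivative h ≠ 0)
    (hu' : h.eval₂ τ' (U.eval₂ τ' β' / τ' δ) = 0)
    (hmin : ∀ w : K[X][X], w.natDegree < h.natDegree → w.eval₂ τ' (U.eval₂ τ' β' / τ' δ) = 0 → w = 0) :
    Irreducible h ∧ ∃ C : ℕ, ∀ p n Q : ℕ, ∀ [Fact p.Prime] [CharP K p], Q = p ^ n → 1 < Q →
      (∀ j, δ.coeff j ^ Q = δ.coeff j) → Fix Q g → Fix Q U → ∀ R : Finset (K × K),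
      (∀ z, z ∈ R ↔ z.1 ^ Q = z.1 ∧ z.2 ^ Q = z.2 ∧ (Algebra.norm K[X] (GG h)).eval z.1 ≠ 0 ∧
        OnCurve h z.1 z.2) →
      R.card ≤ Q + C * (Nat.sqrt Q + 2) ∧ Q ≤ R.card + C * (Nat.sqrt Q + 2) := by
  classical
  haveI : IsDomain (AdjoinRoot g) := AdjoinRoot.isDomain_of_prime hirr.prime
  haveI : Nonempty (Fin g.natDegree) := ⟨i₀⟩
  set d := h.natDegree with hd
  -- transfer to the coordinate ring of `g`
  let j' : AdjoinRoot g →+* Ω' := AdjoinRoot.lift τ' β' ((hgdvd g).2 dvd_rfl)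
  have hj' : Function.Injective j' := by
    rw [injective_iff_map_eq_zero]
    intro z hz
    obtain ⟨q, rfl⟩ := AdjoinRoot.mk_surjective z
    rw [AdjoinRoot.lift_mk] at hz
    exact AdjoinRoot.mk_eq_zero.2 ((hgdvd q).1 hz)
  have hj'of : j'.comp (AdjoinRoot.of g) = τ' := RingHom.ext fun q => AdjoinRoot.lift_of ((hgdvd g).2 dvd_rfl)
  have hτ'δ : τ' δ ≠ 0 := fun e => by
    have h1 := (hgdvd (C δ)).1 (by rw [eval₂_C]; exact e)
    refine hg.not_dvd_of_natDegree_lt (C_ne_zero.2 hδ0) ?_ h1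
    rw [natDegree_C]; exact lt_of_le_of_lt (Nat.zero_le _) i₀.2
  let Pc : Fin g.natDegree → AdjoinRoot g := fun i => AdjoinRoot.mk g (P i)
  let dA : AdjoinRoot g := AdjoinRoot.of g δ
  have hroots : C (dA ^ g.natDegree) * g.map (AdjoinRoot.of g) = ∏ i, (C dA * X - C (Pc i)) := by
    refine Polynomial.map_injective j' hj' ?_
    rw [Polynomial.map_mul, Polynomial.map_C, map_pow, Polynomial.map_map, hj'of,
      show j' dA = τ' δ from AdjoinRoot.lift_of ((hgdvd g).2 dvd_rfl), hroots', Polynomial.map_prod]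
    refine Finset.prod_congr rfl fun i _ => ?_
    rw [Polynomial.map_sub, Polynomial.map_mul, Polynomial.map_C, Polynomial.map_X, Polynomial.map_C,
      AdjoinRoot.lift_of, AdjoinRoot.lift_mk]
  have hH : scl (AdjoinRoot.of g) h dA (AdjoinRoot.mk g U) d = 0 := hj' (by
    rw [map_zero, map_scl, hj'of, AdjoinRoot.lift_of, AdjoinRoot.lift_mk, scl_eq _ _ hτ'δ _ le_rfl, hu',
      mul_zero])
  -- `h` is the minimal polynomial
  have hinjh : ∀ w : K[X][X], h.degree ≤ w.degree ∨ w.eval₂ τ' (U.eval₂ τ' β' / τ' δ) ≠ 0 ∨ w = 0 := by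
    intro w
    by_cases hw : w = 0
    · exact Or.inr (Or.inr hw)
    by_cases he : w.eval₂ τ' (U.eval₂ τ' β' / τ' δ) = 0
    · refine Or.inl ?_
      rw [degree_eq_natDegree hw, degree_eq_natDegree hh.ne_zero, Nat.cast_le]
      by_contra hlt
      exact hw (hmin w (not_le.1 hlt) he)
    · exact Or.inr (Or.inl he)
  have hirrh : Irreducible h := by
    letI := τ'.toAlgebra
    have hint : IsIntegral K[X] (U.eval₂ τ' β' / τ' δ) := ⟨h, hh, hu'⟩
    have hτ' : Function.Injective τ' := by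
      intro a b e
      have h1 := (hgdvd (C (a - b))).1 (by rw [eval₂_C, map_sub, e, sub_self])
      by_contra hne
      refine hg.not_dvd_of_natDegree_lt (C_ne_zero.2 (sub_ne_zero.2 hne)) ?_ h1
      rw [natDegree_C]; exact lt_of_le_of_lt (Nat.zero_le _) i₀.2
    haveI : FaithfulSMul K[X] Ω' := (faithfulSMul_iff_algebraMap_injective _ _).2 hτ'
    have : h = minpoly K[X] (U.eval₂ τ' β' / τ' δ) := by
      refine minpoly.unique' K[X] _ hh hu' fun q hq => ?_
      rcases hinjh q with h1 | h1 | h1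
      · exact absurd hq (not_lt.2 h1)
      · exact Or.inr h1
      · exact Or.inl h1
    rw [this]; exact minpoly.irreducible hint
  refine ⟨hirrh, ?_⟩
  haveI : IsDomain (AdjoinRoot h) := AdjoinRoot.isDomain_of_prime hirrh.prime
  -- the algebraic closure of `K(x)`
  let L1 := FractionRing K[X]
  let Ω := AlgebraicClosure L1
  let τ : K[X] →+* Ω := algebraMap K[X] Ω
  have hτ : τ = (algebraMap L1 Ω).comp (algebraMap K[X] L1) := IsScalarTower.algebraMap_eq _ _ _
  have hτinj : Function.Injective τ := by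
    rw [hτ, RingHom.coe_comp]; exact (algebraMap L1 Ω).injective.comp (IsFractionRing.injective K[X] L1)
  obtain ⟨β, hβ⟩ : ∃ β : Ω, g.eval₂ τ β = 0 := by
    obtain ⟨β, hβ⟩ := IsAlgClosed.exists_root (g.map τ) (by
      rw [degree_eq_natDegree (hg.map τ).ne_zero, hg.natDegree_map]
      exact_mod_cast (Nat.lt_of_le_of_lt (Nat.zero_le _) i₀.2).ne')
    exact ⟨β, by rwa [IsRoot, eval_map] at hβ⟩
  haveI : FaithfulSMul K[X] Ω := (faithfulSMul_iff_algebraMap_injective _ _).2 hτinj
  have hgmin : g = minpoly K[X] β := by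
    have hint : IsIntegral K[X] β := ⟨g, hg, hβ⟩
    exact eq_of_monic_of_associated hg (minpoly.monic hint)
      ((minpoly.irreducible hint).associated_of_dvd hirr (minpoly.isIntegrallyClosed_dvd hint hβ)).symm
  let j : AdjoinRoot g →+* Ω := AdjoinRoot.lift τ β hβ
  have hj : Function.Injective j := by
    rw [injective_iff_map_eq_zero]
    intro z hz
    obtain ⟨q, rfl⟩ := AdjoinRoot.mk_surjective z
    rw [AdjoinRoot.lift_mk] at hz
    refine AdjoinRoot.mk_eq_zero.2 ?_
    rw [hgmin]; exact minpoly.isIntegrallyClosed_dvd ⟨g, hg, hβ⟩ hz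
  have hjof : j.comp (AdjoinRoot.of g) = τ := RingHom.ext fun q => AdjoinRoot.lift_of hβ
  have hjd : j dA = τ δ := AdjoinRoot.lift_of hβ
  have hτδ : τ δ ≠ 0 := fun e => hδ0 (hτinj (e.trans (map_zero τ).symm))
  set y : Fin g.natDegree → Ω := fun i => j (Pc i) / τ δ with hy
  have hgroots : g.map τ = ∏ i, (X - C (y i)) := by
    have h1 := congrArg (Polynomial.map j) hroots
    rw [Polynomial.map_mul, Polynomial.map_C, map_pow, Polynomial.map_map, hjof, hjd, Polynomial.map_prod] at h1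
    refine mul_left_cancel₀ (C_ne_zero.2 (pow_ne_zero g.natDegree hτδ)) (h1.trans ?_)
    rw [C_pow, show (C (τ δ)) ^ g.natDegree = ∏ _i : Fin g.natDegree, C (τ δ) by simp, ← Finset.prod_mul_distrib]
    refine Finset.prod_congr rfl fun i _ => ?_
    rw [Polynomial.map_sub, Polynomial.map_mul, Polynomial.map_C, Polynomial.map_X, Polynomial.map_C, hjd,
      mul_sub, ← C_mul, hy, mul_div_cancel₀ _ hτδ]
  have hy0 : ∀ b : Ω, (g.map τ).eval b = 0 ↔ ∃ i, y i = b := fun b => by
    rw [hgroots, eval_prod, Finset.prod_eq_zero_iff]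
    simp only [eval_sub, eval_X, eval_C, sub_eq_zero, Finset.mem_univ, true_and]
    exact exists_congr fun i => eq_comm
  have hGG : ∀ {q : K[X][X]}, q.Monic → derivative q ≠ 0 → GG q ≠ 0 := fun {q} hq hq' h0 => by
    refine hq.not_dvd_of_natDegree_lt hq' ?_ (AdjoinRoot.mk_eq_zero.mp h0)
    refine natDegree_derivative_lt fun e => hq' ?_
    rw [eq_C_of_natDegree_eq_zero e, derivative_C]
  have hyinj : Function.Injective y := by
    have hsep : (g.map τ).Separable := by
      rw [hτ, ← Polynomial.map_map]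
      refine Separable.map ((Polynomial.separable_iff_derivative_ne_zero ?_).2 ?_)
      · exact (IsPrimitive.irreducible_iff_irreducible_map_fraction_map hg.isPrimitive).1 hirr
      · rw [derivative_map]; exact (Polynomial.map_ne_zero_iff (IsFractionRing.injective K[X] L1)).2 hder
    exact separable_prod_X_sub_C_iff.1 (hgroots ▸ hsep)
  -- the functions `u i`
  set EU := U.natDegree with hEU
  let V : Fin g.natDegree → AdjoinRoot g := fun i => scl (AdjoinRoot.of g) U dA (Pc i) EU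
  set u : Fin g.natDegree → Ω := fun i => U.eval₂ τ (y i) / τ δ with hu
  have hjV : ∀ i, j (V i) = τ δ ^ (EU + 1) * u i := fun i => by
    simp only [V]
    rw [map_scl, hjof, hjd, scl_eq _ _ hτδ _ le_rfl, pow_succ, mul_assoc, hu, mul_div_cancel₀ _ hτδ]
  have huV : ∀ {i l}, u i = u l → V i = V l := fun {i l} e => hj (by rw [hjV, hjV, e])
  have hyi₀ : y i₀ = β := by
    simp only [hy, Pc, hi₀, map_mul, AdjoinRoot.mk_C, AdjoinRoot.mk_X]
    rw [AdjoinRoot.lift_of hβ, AdjoinRoot.lift_root, mul_div_cancel_left₀ _ hτδ]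
  have hu₀ : h.eval₂ τ (u i₀) = 0 := by
    have h1 := congrArg j hH
    rw [map_scl, hjof, hjd, AdjoinRoot.lift_mk, scl_eq _ _ hτδ _ le_rfl, map_zero, mul_eq_zero] at h1
    rw [hu]; simp only; rw [hyi₀]
    exact h1.resolve_left (pow_ne_zero _ hτδ)
  let hL := h.map (algebraMap K[X] L1)
  have hLirr : Irreducible hL := (IsPrimitive.irreducible_iff_irreducible_map_fraction_map hh.isPrimitive).1 hirrh
  have haev : ∀ (q : K[X][X]) (x : Ω), q.eval₂ τ x = aeval x (q.map (algebraMap K[X] L1)) := fun q x => by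
    rw [aeval_def, eval₂_map, ← hτ]
  have hgirr : Irreducible (g.map (algebraMap K[X] L1)) :=
    (IsPrimitive.irreducible_iff_irreducible_map_fraction_map hg.isPrimitive).1 hirr
  have hminy : ∀ i, minpoly L1 (y i) = g.map (algebraMap K[X] L1) := fun i => by
    refine (minpoly.eq_of_irreducible_of_monic hgirr ?_ (hg.map _)).symm
    rw [← haev, ← eval_map]; exact (hy0 _).2 ⟨i, rfl⟩
  have hroot : ∀ i, h.eval₂ τ (u i) = 0 := by
    intro i
    -- conjugate from `i₀`
    obtain ⟨σ, hσ⟩ := IsConjRoot.exists_algEquiv (K := L1) (x := y i) (y := y i₀)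
      (show minpoly L1 (y i) = minpoly L1 (y i₀) by rw [hminy, hminy])
    have hστ : (σ : Ω →+* Ω).comp τ = τ := RingHom.ext fun q => by
      rw [RingHom.comp_apply, hτ, RingHom.comp_apply]; exact σ.commutes _
    have e : (σ : Ω →+* Ω) (h.eval₂ τ (u i₀)) = h.eval₂ τ (u i) := by
      rw [hom_eval₂, hστ]
      congr 1
      rw [hu, map_div₀, hom_eval₂, hστ, show (σ : Ω →+* Ω) (τ δ) = τ δ from RingHom.congr_fun hστ δ]
      exact congrArg (fun z => U.eval₂ τ z / τ δ) hσ
    rw [← e, hu₀, map_zero]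
  have hminu : ∀ x : Ω, h.eval₂ τ x = 0 → minpoly L1 x = hL := fun x hx =>
    (minpoly.eq_of_irreducible_of_monic hLirr (by rw [← haev]; exact hx) (hh.map _)).symm
  set rts : Finset Ω := (h.map τ).roots.toFinset with hrts
  have hmem : ∀ x, x ∈ rts ↔ h.eval₂ τ x = 0 := fun x => by
    rw [hrts, Multiset.mem_toFinset, mem_roots (hh.map τ).ne_zero, IsRoot, eval_map]
  have hsepL : (h.map τ).Separable := by
    rw [hτ, ← Polynomial.map_map]
    refine Separable.map ((Polynomial.separable_iff_derivative_ne_zero hLirr).2 ?_)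
    rw [derivative_map]; exact (Polynomial.map_ne_zero_iff (IsFractionRing.injective K[X] L1)).2 hhder
  have hrcard : rts.card = d := by
    rw [hrts, Multiset.toFinset_card_of_nodup (nodup_roots hsepL), IsAlgClosed.card_roots_eq_natDegree,
      hh.natDegree_map]
  -- the classes all have the same size
  set e₀ := (Finset.univ.filter fun i => u i = u i₀).card with he₀
  have hclass : ∀ x ∈ rts, (Finset.univ.filter fun i => u i = x).card = e₀ := by
    intro x hx
    obtain ⟨σ, hσ⟩ := IsConjRoot.exists_algEquiv (K := L1) (x := x) (y := u i₀)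
      (show minpoly L1 x = minpoly L1 (u i₀) by rw [hminu _ hu₀, hminu _ ((hmem x).1 hx)])
    have hστ : (σ : Ω →+* Ω).comp τ = τ := RingHom.ext fun q => by
      rw [RingHom.comp_apply, hτ, RingHom.comp_apply]; exact σ.commutes _
    have hperm : ∀ i, ∃ l, y l = σ (y i) := fun i => (hy0 _).1 (by
      have h1 : (σ : Ω →+* Ω) (g.eval₂ τ (y i)) = g.eval₂ τ (σ (y i)) := by rw [hom_eval₂, hστ]; rfl
      rw [eval_map, ← h1, ← eval_map, (hy0 _).2 ⟨i, rfl⟩, map_zero])
    choose π hπ using hperm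
    have hπb : Function.Bijective π := Finite.injective_iff_bijective.1 fun a b e =>
      hyinj (σ.injective (by rw [← hπ, ← hπ, e]))
    have huπ : ∀ i, u (π i) = σ (u i) := fun i => by
      simp only [hu]
      rw [map_div₀, hπ]
      congr 1
      · exact (by rw [hom_eval₂, hστ]; rfl :
          U.eval₂ τ (σ (y i)) = (σ : Ω →+* Ω) (U.eval₂ τ (y i)))
      · exact (RingHom.congr_fun hστ δ).symm
    refine (Finset.card_equiv (Equiv.ofBijective π hπb).symm fun l => ?_)
    simp only [Finset.mem_filter, Finset.mem_univ, true_and]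
    obtain ⟨i, rfl⟩ := hπb.2 l
    rw [Equiv.ofBijective_symm_apply_apply, huπ, ← hσ]
    exact σ.injective.eq_iff
  have he₀pos : 0 < e₀ := Finset.card_pos.2 ⟨i₀, by simp⟩
  have hsurj : ∀ x ∈ rts, ∃ i, u i = x := fun x hx => by
    obtain ⟨i, hi⟩ := Finset.card_pos.1 (by rw [hclass x hx]; exact he₀pos)
    exact ⟨i, (Finset.mem_filter.1 hi).2⟩
  choose! rep hrep using hsurj
  have hhid : C (dA ^ ((EU + 1) * d)) * h.map (AdjoinRoot.of g) =
      ∏ x ∈ rts, (C (dA ^ (EU + 1)) * X - C (V (rep x))) := by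
    refine Polynomial.map_injective j hj ?_
    have hfac : h.map τ = ∏ x ∈ rts, (X - C x) := by
      rw [hrts, Finset.prod_eq_multiset_prod, Multiset.toFinset_val,
        Multiset.dedup_eq_self.mpr (nodup_roots hsepL)]
      exact (IsAlgClosed.splits _).eq_prod_roots_of_monic (hh.map τ)
    rw [Polynomial.map_mul, Polynomial.map_C, Polynomial.map_map, hjof, map_pow, hjd, Polynomial.map_prod,
      hfac, pow_mul, C_pow (a := τ δ ^ (EU + 1)), show (C (τ δ ^ (EU + 1))) ^ d = ∏ _x ∈ rts, C (τ δ ^ (EU + 1)) by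
        rw [Finset.prod_const, hrcard], ← Finset.prod_mul_distrib]
    refine Finset.prod_congr rfl fun x hx => ?_
    rw [Polynomial.map_sub, Polynomial.map_mul, Polynomial.map_C, Polynomial.map_X, Polynomial.map_C,
      map_pow j, hjd, hjV, hrep x hx, mul_sub, ← C_mul]
  -- constants
  set c := (Finset.range (g.natDegree + 1)).sup fun i => (g.coeff i).natDegree with hc
  have hW : WBound g c := fun i => by
    rcases lt_or_ge i g.natDegree with hi | hi
    · refine le_trans (Finset.le_sup (f := fun i => (g.coeff i).natDegree) (Finset.mem_range.2 (by omega)))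
        (Nat.le_mul_of_pos_right _ (by omega))
    · rcases hi.eq_or_lt with rfl | hi
      · simp [hg.coeff_natDegree]
      · simp [coeff_eq_zero_of_natDegree_lt hi]
  have hPe : ∃ e, δ.natDegree ≤ e ∧ ∀ i, Pc i ∈ Fl g c e := by
    choose ee hee using fun i => exists_mem_Fl hg hW (Pc i)
    exact ⟨max δ.natDegree (Finset.univ.sup ee), le_max_left _ _, fun i =>
      Fl_mono g c ((Finset.le_sup (Finset.mem_univ i)).trans (le_max_right _ _)) (hee i)⟩
  obtain ⟨e, hde, hPe⟩ := hPe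
  set Ng := Algebra.norm K[X] (GG g) with hNg
  set Nh := Algebra.norm K[X] (GG h) with hNh
  have hNg0 : Ng ≠ 0 := norm_ne_zero hg (hGG hg hder)
  have hNh0 : Nh ≠ 0 := norm_ne_zero hh (hGG hh hhder)
  set bad := δ.natDegree + Ng.natDegree + Nh.natDegree with hbad
  refine ⟨g.natDegree * stepC c g.natDegree e + bad * g.natDegree + bad * d, ?_⟩
  intro p n Q _ _ hQ hQ1 hδQ hgQ hUQ R hR
  haveI : ExpChar K p := ExpChar.prime Fact.out
  set S := stepC c g.natDegree e * (Nat.sqrt Q + 2) with hSdef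
  set A := (X ^ Q - X : K[X]).roots.toFinset with hA
  have hAmem : ∀ a, a ∈ A ↔ a ^ Q = a := fun a => by
    rw [hA, Multiset.mem_toFinset, mem_roots (FiniteField.X_pow_card_sub_X_ne_zero K hQ1), IsRoot,
      eval_sub, eval_pow, eval_X, sub_eq_zero]
  have hAcard : A.card = Q := by
    rw [hA, Multiset.toFinset_card_of_nodup (nodup_roots (galois_poly_separable p Q (hQ ▸ dvd_pow_self p (by
      rintro rfl; simp [hQ] at hQ1)))), IsAlgClosed.card_roots_eq_natDegree,
      FiniteField.X_pow_card_sub_X_natDegree_eq K hQ1]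
  set Good := A.filter (fun a => δ.eval a ≠ 0 ∧ Ng.eval a ≠ 0 ∧ Nh.eval a ≠ 0) with hGood
  have hbadA : (A \ Good).card ≤ bad := by
    have h1 : A \ Good ⊆ δ.roots.toFinset ∪ Ng.roots.toFinset ∪ Nh.roots.toFinset := fun a ha => by
      simp only [hGood, Finset.mem_sdiff, Finset.mem_filter, not_and] at ha
      simp only [Finset.mem_union, Multiset.mem_toFinset, mem_roots hδ0, mem_roots hNg0, mem_roots hNh0, IsRoot]
      by_contra hcon
      push Not at hcon
      exact ha.2 ha.1 hcon.1.1 hcon.1.2 hcon.2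
    refine (Finset.card_le_card h1).trans ((Finset.card_union_le _ _).trans ?_)
    refine Nat.add_le_add ((Finset.card_union_le _ _).trans (Nat.add_le_add ?_ ?_)) ?_ <;>
      exact (Multiset.toFinset_card_le _).trans (card_roots' _)
  have hgood : Q ≤ Good.card + bad := by
    have := Finset.card_sdiff_add_card_eq_card (Finset.filter_subset (fun a => δ.eval a ≠ 0 ∧ Ng.eval a ≠ 0 ∧ Nh.eval a ≠ 0) A)
    rw [← hGood, hAcard] at this
    omega
  -- values
  let val : Fin g.natDegree → K × K → K := fun i z => (P i).eval₂ (evalRingHom z.1) z.2 / δ.eval z.1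
  let π : K × K → K := fun z => U.eval₂ (evalRingHom z.1) z.2 / δ.eval z.1
  have hdeg : ∀ a : K, (g.map (evalRingHom a)).natDegree = g.natDegree := fun a => hg.natDegree_map _
  have hevof : ∀ {a b : K} (hz : OnCurve g a b), (evAt hz).comp (AdjoinRoot.of g) = evalRingHom a :=
    fun {a b} hz => RingHom.ext fun q => AdjoinRoot.lift_of hz
  have hevd : ∀ {a b : K} (hz : OnCurve g a b), evAt hz dA = δ.eval a :=
    fun {a b} hz => AdjoinRoot.lift_of hz
  have hval : ∀ {a b : K}, δ.eval a ≠ 0 → Ng.eval a ≠ 0 → OnCurve g a b →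
      Function.Injective (fun i => val i (a, b)) ∧ (∀ i, OnCurve g a (val i (a, b))) ∧
        ∀ b', OnCurve g a b' → ∃ i, val i (a, b) = b' := by
    intro a b hδa hNa hz
    have h1 := congrArg (Polynomial.map (evAt hz)) hroots
    rw [Polynomial.map_mul, Polynomial.map_C, map_pow, Polynomial.map_map, hevof, hevd, Polynomial.map_prod] at h1
    have h2 : g.map (evalRingHom a) = ∏ i, (X - C (val i (a, b))) := by
      refine mul_left_cancel₀ (C_ne_zero.2 (pow_ne_zero g.natDegree hδa)) (h1.trans ?_)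
      rw [C_pow, show (C (δ.eval a)) ^ g.natDegree = ∏ _i : Fin g.natDegree, C (δ.eval a) by simp, ← Finset.prod_mul_distrib]
      refine Finset.prod_congr rfl fun i _ => ?_
      rw [Polynomial.map_sub, Polynomial.map_mul, Polynomial.map_C, Polynomial.map_X, Polynomial.map_C,
        hevd, mul_sub, ← C_mul]
      simp only [Pc, evAt_mk, val]
      rw [mul_div_cancel₀ _ hδa]
    have h3 : ∀ b', OnCurve g a b' ↔ ∃ i, val i (a, b) = b' := fun b' => by
      rw [OnCurve, ← eval_map, h2, eval_prod, Finset.prod_eq_zero_iff]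
      simp only [eval_sub, eval_X, eval_C, sub_eq_zero, Finset.mem_univ, true_and]
      exact exists_congr fun i => eq_comm
    refine ⟨?_, fun i => (h3 _).2 ⟨i, rfl⟩, fun b' hb' => (h3 b').1 hb'⟩
    obtain ⟨F⟩ := exists_fibre hg hNa
    choose w hw using fun l => (h3 (F.pt l)).1 (F.onCurve l)
    have hwb : Function.Bijective w := Finite.injective_iff_bijective.1 fun l m e =>
      F.inj (by rw [← hw l, ← hw m, e])
    intro i l e
    obtain ⟨a', rfl⟩ := hwb.2 i
    obtain ⟨b'', rfl⟩ := hwb.2 l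
    have : F.pt a' = F.pt b'' := by rw [← hw a', ← hw b'']; exact e
    rw [F.inj this]
  have hπV : ∀ {a b : K} (hz : OnCurve g a b), δ.eval a ≠ 0 → ∀ i,
      evAt hz (V i) = δ.eval a ^ (EU + 1) * π (a, val i (a, b)) := by
    intro a b hz hδa i
    simp only [V, π, val]
    rw [map_scl, hevof, hevd, scl_eq _ _ hδa _ le_rfl, pow_succ, mul_assoc, mul_div_cancel₀ _ hδa]
    simp only [Pc, evAt_mk]
    rfl
  have hπ : ∀ {a b : K}, δ.eval a ≠ 0 → Nh.eval a ≠ 0 → OnCurve g a b →
      (∀ i l, π (a, val i (a, b)) = π (a, val l (a, b)) ↔ u i = u l) ∧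
      (∀ i, OnCurve h a (π (a, val i (a, b)))) ∧ ∀ c', OnCurve h a c' → ∃ i, π (a, val i (a, b)) = c' := by
    intro a b hδa hNa hz
    have h1 := congrArg (Polynomial.map (evAt hz)) hhid
    rw [Polynomial.map_mul, Polynomial.map_C, map_pow, Polynomial.map_map, hevof, hevd, Polynomial.map_prod] at h1
    have h2 : h.map (evalRingHom a) = ∏ x ∈ rts, (X - C (π (a, val (rep x) (a, b)))) := by
      refine mul_left_cancel₀ (C_ne_zero.2 (pow_ne_zero ((EU + 1) * d) hδa)) (h1.trans ?_)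
      rw [pow_mul, C_pow (a := δ.eval a ^ (EU + 1)), show (C (δ.eval a ^ (EU + 1))) ^ d = ∏ _x ∈ rts, C (δ.eval a ^ (EU + 1)) by
        rw [Finset.prod_const, hrcard], ← Finset.prod_mul_distrib]
      refine Finset.prod_congr rfl fun x _ => ?_
      rw [Polynomial.map_sub, Polynomial.map_mul, Polynomial.map_C, Polynomial.map_X, Polynomial.map_C,
        map_pow, hevd, hπV hz hδa, mul_sub, ← C_mul]
    have h3 : ∀ c', OnCurve h a c' ↔ ∃ x ∈ rts, π (a, val (rep x) (a, b)) = c' := fun c' => by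
      rw [OnCurve, ← eval_map, h2, eval_prod, Finset.prod_eq_zero_iff]
      simp only [eval_sub, eval_X, eval_C, sub_eq_zero]
      exact exists_congr fun i => and_congr_right fun _ => eq_comm
    obtain ⟨F⟩ := exists_fibre hh hNa
    have hinj : ∀ x ∈ rts, ∀ x' ∈ rts, π (a, val (rep x) (a, b)) = π (a, val (rep x') (a, b)) → x = x' := by
      intro x hx x' hx' e
      refine Finset.inj_on_of_surj_on_of_card_le (t := Finset.univ.image F.pt)
        (fun x _ => π (a, val (rep x) (a, b)))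
        (fun x hx => ?_) (fun c' hc' => ?_) ?_ hx hx' e
      · obtain ⟨l, hl⟩ := F.surj _ ((h3 _).2 ⟨x, hx, rfl⟩)
        exact Finset.mem_image.2 ⟨l, Finset.mem_univ _, hl⟩
      · obtain ⟨l, -, rfl⟩ := Finset.mem_image.1 hc'
        obtain ⟨x, hx, hxe⟩ := (h3 _).1 (F.onCurve l)
        exact ⟨x, hx, hxe⟩
      · rw [Finset.card_image_of_injective _ F.inj, Finset.card_univ, Fintype.card_fin, hrcard]
    have hrepeq : ∀ i, π (a, val i (a, b)) = π (a, val (rep (u i)) (a, b)) := fun i => by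
      have h4 := congrArg (evAt hz) (huV (hrep (u i) ((hmem _).2 (hroot i))))
      rw [hπV hz hδa, hπV hz hδa] at h4
      exact (mul_left_cancel₀ (pow_ne_zero _ hδa) h4).symm
    refine ⟨fun i l => ⟨fun e => ?_, fun e => ?_⟩, fun i => ?_, fun c' hc' => ?_⟩
    · rw [hrepeq i, hrepeq l] at e
      exact hinj _ ((hmem _).2 (hroot i)) _ ((hmem _).2 (hroot l)) e
    · rw [hrepeq i, hrepeq l, e]
    · rw [hrepeq i]; exact (h3 _).2 ⟨_, (hmem _).2 (hroot i), rfl⟩
    · obtain ⟨x, -, hx⟩ := (h3 c').1 hc'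
      exact ⟨_, hx⟩
  have hvali₀ : ∀ {a b : K}, δ.eval a ≠ 0 → val i₀ (a, b) = b := fun {a b} hδa => by
    simp only [val, hi₀, eval₂_mul, eval₂_C, eval₂_X, coe_evalRingHom]
    rw [mul_div_cancel_left₀ _ hδa]
  -- the pairs
  set T : Finset (K × K) := Good.biUnion fun a =>
    ((g.map (evalRingHom a)).roots.toFinset).image fun b => (a, b) with hT
  have hTmem : ∀ z, z ∈ T ↔ z.1 ∈ Good ∧ OnCurve g z.1 z.2 := by
    rintro ⟨a, b⟩
    simp only [hT, Finset.mem_biUnion, Finset.mem_image, Prod.mk.injEq, Multiset.mem_toFinset,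
      mem_roots (hg.map _).ne_zero, IsRoot, eval_map]
    exact ⟨fun ⟨a', ha', b', hb', e1, e2⟩ => e1 ▸ e2 ▸ ⟨ha', hb'⟩,
      fun ⟨ha, hb⟩ => ⟨a, ha, b, hb, rfl, rfl⟩⟩
  have hTgood : ∀ z ∈ T, z.1 ^ Q = z.1 ∧ δ.eval z.1 ≠ 0 ∧ Ng.eval z.1 ≠ 0 ∧ Nh.eval z.1 ≠ 0 ∧
      OnCurve g z.1 z.2 := fun z hz => by
    obtain ⟨h1, h2⟩ := (hTmem z).1 hz
    obtain ⟨h3, h4, h5, h6⟩ := Finset.mem_filter.1 h1
    exact ⟨(hAmem _).1 h3, h4, h5, h6, h2⟩
  have hTcard : Good.card * g.natDegree ≤ T.card := by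
    rw [hT, Finset.card_biUnion]
    · rw [← smul_eq_mul, ← Finset.sum_const]
      refine Finset.sum_le_sum fun a ha => ?_
      rw [Finset.card_image_of_injective _ (fun b b' e => (Prod.mk.inj e).2)]
      obtain ⟨F⟩ := exists_fibre hg (Finset.mem_filter.mp ha).2.2.1
      refine le_trans (le_of_eq (by simp)) (Finset.card_le_card_of_injOn (s := (Finset.univ : Finset (Fin g.natDegree))) F.pt
        (fun i _ => ?_) F.inj.injOn)
      rw [Finset.mem_coe, Multiset.mem_toFinset, mem_roots (hg.map _).ne_zero, IsRoot, eval_map]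
      exact F.onCurve i
    · intro a _ a' _ hne
      simp only [Function.onFun, Finset.disjoint_left, Finset.mem_image]
      rintro _ ⟨b, -, rfl⟩ ⟨b', -, e⟩
      exact hne (Prod.mk.inj e).1.symm
  set Ti : Fin g.natDegree → Finset (K × K) := fun i => T.filter fun z => z.2 ^ Q = val i z with hTi
  have hTi_le : ∀ i, (Ti i).card ≤ Q + S := fun i => by
    refine stepanov hg hW hde (hPe i) p n Q hQ hQ1 (Ti i) fun z hz => ?_
    obtain ⟨hz1, hz2⟩ := Finset.mem_filter.1 hz
    obtain ⟨h1, h2, h3, -, h5⟩ := hTgood z hz1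
    refine ⟨h1, h5, h3, h2, ?_⟩
    rw [hz2]
    simp only [val, Pc, evAt_mk]
    rw [mul_div_cancel₀ _ h2]
  have hframe : ∀ z ∈ T, OnCurve g z.1 (z.2 ^ Q) ∧ π z ^ Q = π (z.1, z.2 ^ Q) := fun z hz => by
    obtain ⟨h1, h2, h3, -, h5⟩ := hTgood z hz
    constructor
    · show g.eval₂ (evalRingHom z.1) (z.2 ^ Q) = 0
      rw [← frob_eval₂ hQ hgQ h1, h5, zero_pow (by omega)]
    · simp only [π]
      rw [div_pow, frob_eval₂ hQ hUQ h1, frob_eval hQ hδQ h1]
  have hidx : ∀ z ∈ T, ∃ i, z ∈ Ti i := fun z hz => by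
    obtain ⟨h1, h2, h3, -, h5⟩ := hTgood z hz
    obtain ⟨i, hi⟩ := (hval h2 h3 h5).2.2 _ (hframe z hz).1
    exact ⟨i, Finset.mem_filter.2 ⟨hz, hi.symm⟩⟩
  have hdisj : ∀ i l, i ≠ l → Disjoint (Ti i) (Ti l) := fun i l hne => Finset.disjoint_left.2 fun z hz hz' => by
    obtain ⟨hz1, hz2⟩ := Finset.mem_filter.1 hz
    obtain ⟨-, hz3⟩ := Finset.mem_filter.1 hz'
    obtain ⟨h1, h2, h3, -, h5⟩ := hTgood z hz1
    exact hne ((hval h2 h3 h5).1 (hz2.symm.trans hz3))
  have hTi_ge : ∀ i, Q ≤ (Ti i).card + (g.natDegree * S + bad * g.natDegree) := fun i => by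
    have h1 : T.card ≤ ∑ l, (Ti l).card := by
      refine (Finset.card_le_card fun z hz => ?_).trans Finset.card_biUnion_le
      obtain ⟨l, hl⟩ := hidx z hz
      exact Finset.mem_biUnion.2 ⟨l, Finset.mem_univ _, hl⟩
    rw [← Finset.add_sum_erase _ _ (Finset.mem_univ i)] at h1
    have h2 := Finset.sum_le_card_nsmul (Finset.univ.erase i) (fun l => (Ti l).card) (Q + S) fun l _ => hTi_le l
    rw [Finset.card_erase_of_mem (Finset.mem_univ _), Finset.card_univ, Fintype.card_fin, smul_eq_mul] at h2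
    obtain ⟨D', hD'⟩ : ∃ D', g.natDegree = D' + 1 := ⟨g.natDegree - 1, by have := i.2; omega⟩
    rw [show g.natDegree - 1 = D' by omega] at h2
    have h3 : Q * g.natDegree ≤ (Good.card + bad) * g.natDegree := Nat.mul_le_mul_right _ hgood
    have h4 : Q * g.natDegree = Q * D' + Q := by rw [hD']; ring
    have h5 : D' * S ≤ g.natDegree * S := Nat.mul_le_mul_right _ (by omega)
    nlinarith
  set H := Finset.univ.filter fun i => u i = u i₀ with hH'
  set Rg : Finset (K × K) := R.filter fun z => z.1 ∈ Good with hRg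
  set TH : Finset (K × K) := T.filter fun z => π z ^ Q = π z with hTH
  have hTH : TH = H.biUnion Ti := by
    ext z
    simp only [hTH, Finset.mem_filter, Finset.mem_biUnion, hH', Finset.mem_univ, true_and]
    constructor
    · rintro ⟨hz, hπz⟩
      obtain ⟨h1, h2, h3, h4, h5⟩ := hTgood z hz
      obtain ⟨i, hi⟩ := hidx z hz
      refine ⟨i, ((hπ h2 h4 h5).1 i i₀).1 ?_, hi⟩
      rw [hvali₀ h2, ← (Finset.mem_filter.1 hi).2, ← (hframe z hz).2, hπz]
    · rintro ⟨i, hi, hz'⟩
      obtain ⟨hz, hzi⟩ := Finset.mem_filter.1 hz'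
      obtain ⟨h1, h2, h3, h4, h5⟩ := hTgood z hz
      refine ⟨hz, ?_⟩
      have := ((hπ h2 h4 h5).1 i i₀).2 hi
      rw [hvali₀ h2, ← hzi] at this
      rw [(hframe z hz).2, this]
  have hTHcard : TH.card = e₀ * Rg.card := by
    have hmap : ∀ z ∈ TH, (z.1, π z) ∈ Rg := fun z hz => by
      obtain ⟨hz1, hz2⟩ := Finset.mem_filter.1 hz
      obtain ⟨h1, h2, h3, h4, h5⟩ := hTgood z hz1
      refine Finset.mem_filter.2 ⟨(hR _).2 ⟨h1, hz2, h4, ?_⟩, ((hTmem z).1 hz1).1⟩
      have := (hπ h2 h4 h5).2.1 i₀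
      rwa [hvali₀ h2] at this
    rw [Finset.card_eq_sum_card_fiberwise hmap, Finset.sum_const_nat (m := e₀), mul_comm]
    rintro ⟨a, c'⟩ hac
    obtain ⟨hacR, hagood⟩ := Finset.mem_filter.1 hac
    obtain ⟨ha1, hc1, -, hc3⟩ := (hR _).1 hacR
    obtain ⟨-, hδa, hNa, hMa⟩ := Finset.mem_filter.1 hagood
    simp only at ha1 hc1 hc3 hagood hδa hNa hMa
    obtain ⟨F⟩ := exists_fibre hg hNa
    have hb1 := F.onCurve i₀
    obtain ⟨i₁, hi₁⟩ := (hπ hδa hMa hb1).2.2 c' hc3
    set b₀ := val i₁ (a, F.pt i₀)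
    have hb₀ : OnCurve g a b₀ := (hval hδa hNa hb1).2.1 i₁
    rw [he₀]
    refine (Finset.card_bij (fun i _ => (a, val i (a, b₀))) (fun i hi => ?_)
      (fun i _ l _ e => (hval hδa hNa hb₀).1 (Prod.mk.inj e).2) (fun z hz => ?_)).symm
    · have e : π (a, val i (a, b₀)) = c' := by
        have := ((hπ hδa hMa hb₀).1 i i₀).2 (Finset.mem_filter.1 hi).2
        rw [hvali₀ hδa] at this
        exact this.trans hi₁
      refine Finset.mem_filter.2 ⟨Finset.mem_filter.2 ⟨(hTmem _).2 ⟨hagood, (hval hδa hNa hb₀).2.1 i⟩, ?_⟩, ?_⟩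
      · rw [e]; exact hc1
      · rw [e]
    · obtain ⟨hz1, hz2⟩ := Finset.mem_filter.1 hz
      obtain ⟨hz3, -⟩ := Finset.mem_filter.1 hz1
      obtain ⟨za, zb⟩ := z
      obtain ⟨rfl, hzc⟩ := Prod.mk.inj hz2
      obtain ⟨i, hi⟩ := (hval hδa hNa hb₀).2.2 zb ((hTmem _).1 hz3).2
      refine ⟨i, Finset.mem_filter.2 ⟨Finset.mem_univ _, ((hπ hδa hMa hb₀).1 i i₀).1 ?_⟩, by rw [hi]⟩
      rw [hi, hvali₀ hδa]
      exact hzc.trans hi₁.symm
  have hsum : TH.card = ∑ i ∈ H, (Ti i).card := by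
    rw [hTH]; exact Finset.card_biUnion fun i _ l _ hne => hdisj i l hne
  have hupg : Rg.card ≤ Q + S := by
    have := Finset.sum_le_card_nsmul H (fun i => (Ti i).card) (Q + S) fun i _ => hTi_le i
    rw [← hsum, hTHcard, smul_eq_mul] at this
    exact Nat.le_of_mul_le_mul_left this he₀pos
  have hlowg : Q ≤ Rg.card + (g.natDegree * S + bad * g.natDegree) := by
    have : H.card • Q ≤ ∑ i ∈ H, ((Ti i).card + (g.natDegree * S + bad * g.natDegree)) :=
      Finset.card_nsmul_le_sum H _ Q fun i _ => hTi_ge i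
    rw [Finset.sum_add_distrib, ← hsum, hTHcard, Finset.sum_const, smul_eq_mul, smul_eq_mul, ← he₀,
      ← Nat.mul_add] at this
    exact Nat.le_of_mul_le_mul_left this he₀pos
  have hdiff : R.card ≤ Rg.card + bad * d := by
    have hsub : R ⊆ Rg ∪ (A \ Good).biUnion fun a =>
        (h.map (evalRingHom a)).roots.toFinset.image fun c' => (a, c') := fun z hz => by
      obtain ⟨h1, -, -, h4⟩ := (hR z).1 hz
      by_cases hz1 : z.1 ∈ Good
      · exact Finset.mem_union_left _ (Finset.mem_filter.2 ⟨hz, hz1⟩)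
      · refine Finset.mem_union_right _ (Finset.mem_biUnion.2 ⟨z.1, Finset.mem_sdiff.2 ⟨(hAmem _).2 h1, hz1⟩,
          Finset.mem_image.2 ⟨z.2, ?_, rfl⟩⟩)
        rw [Multiset.mem_toFinset, mem_roots (hh.map _).ne_zero, IsRoot, eval_map]; exact h4
    refine (Finset.card_le_card hsub).trans ((Finset.card_union_le _ _).trans (Nat.add_le_add_left ?_ _))
    refine (Finset.card_biUnion_le_card_mul _ _ d fun a _ => ?_).trans (Nat.mul_le_mul_right _ hbadA)
    refine Finset.card_image_le.trans ((Multiset.toFinset_card_le _).trans ((card_roots' _).trans ?_))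
    exact (hh.natDegree_map _).le
  have hRg_le : Rg.card ≤ R.card := Finset.card_filter_le _ _
  have h2 : bad * g.natDegree ≤ bad * g.natDegree * (Nat.sqrt Q + 2) := Nat.le_mul_of_pos_right _ (by omega)
  have h3 : bad * d ≤ bad * d * (Nat.sqrt Q + 2) := Nat.le_mul_of_pos_right _ (by omega)
  have h4 : S ≤ g.natDegree * S :=
    Nat.le_mul_of_pos_left _ (Nat.lt_of_le_of_lt (Nat.zero_le _) i₀.2)
  have h5 : g.natDegree * S = g.natDegree * stepC c g.natDegree e * (Nat.sqrt Q + 2) := by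
    rw [hSdef, mul_assoc]
  rw [Nat.add_mul, Nat.add_mul]
  constructor <;> omega

end Groth.Agent.FunFldRH25
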