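import Groth.Agent.Lib.FunFldRH25.CurvePlaces
import Groth.Agent.Lib.RefHull26.ODRef
import Groth.Agent.Lib.RefHull26.ClassLaw
import Groth.Agent.Lib.RefHull26.Free
import Groth.Agent.Lib.CurveCoh17.RegPoint
import Groth.Agent.Lib.GeomFF26.Schmidt
import Groth.Agent.S16092

/-!
# Line bundles on a smooth proper curve are divisor classes of its function field
-/

set_option autoImplicit false
set_option linter.style.haveILetI false
set_option maxHeartbeats 1000000
universe u

set_option backward.isDefEq.respectTransparency.types false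

open CategoryTheory AlgebraicGeometry TopologicalSpace IsLocalRing

namespace Groth.Agent.FunFldRH25

open Curve17 Cyc26 FunFld FunField GeomFF26

variable {X : Scheme.{u}} [IsIntegral X]

section basic

theorem ord_eq_ordFrac [IsLocallyNoetherian X] {x : X} (hx : Order.coheight x = 1) (φ : X.functionField) :
    CycAlg.ordFrac (X.presheaf.stalk x) X.functionField φ = Scheme.ord φ x := by
  have : Ring.KrullDimLE 1 (X.presheaf.stalk x) := krullDimLE_of_coheight_le hx.le
  rw [CycAlg.ordFrac, dif_pos ⟨inferInstance, this, inferInstance, inferInstance⟩,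
    Scheme.ord_eq_ordHom_of_coheight_eq_one hx]
  show _ = Multiplicative.toAdd ((Ring.ordFrac (X.presheaf.stalk x) φ).unzeroD 1)
  cases Ring.ordFrac (X.presheaf.stalk x) φ <;> rfl

theorem normal_curve (k : Type u) [Field k] [X.Over (Spec (CommRingCat.of k))]
    [IsProper (X ↘ Spec (CommRingCat.of k))] [Smooth (X ↘ Spec (CommRingCat.of k))] (hd : topologicalKrullDim X = 1) : Pi1.IsNormalScheme X := fun x => by
  haveI := VB17.pid_stalk (k := k) (X := X) hd.le x
  exact ⟨inferInstance, inferInstance⟩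

theorem coheight_one_of_ne (hd : topologicalKrullDim X = 1) {x : X} (h : x ≠ genericPoint X) :
    Order.coheight x = 1 :=
  Curve17.coheight_eq_one hd (Curve17.isClosed_singleton hd.le h)

theorem ne_of_coheight_one [IsLocallyNoetherian X] {x : X} (h : Order.coheight x = 1) : x ≠ genericPoint X :=
  RH26.ne_genericPoint_of_coheight_one h

/-- An invertible module on a normal curve has rank one and is reflexive. -/
theorem r1_of_invertible [IsNoetherian X] (hd : topologicalKrullDim X = 1) (hX : Pi1.IsNormalScheme X)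
    {L : X.Modules} (hL : PicF.IsInvertible L) : RH26.R1 L := by
  refine ⟨hX, CurveCoh17.isCoh_of_ofRank ((M2.isInvertible_iff_isFinLocFreeOfRank_one L).1 hL),
    ⟨fun x => ?_, fun x a h => ?_⟩, Cyc26.exists_gen hL _⟩
  · obtain ⟨g, hg⟩ := Cyc26.exists_gen hL x
    have hgη := Cyc26.gen_stalkSpecializes hL (RH26.gsp x) hg
    intro v w hvw
    obtain ⟨r, rfl⟩ := hg.2 v
    obtain ⟨s, rfl⟩ := hg.2 w
    simp only [Cyc26.stalkSpecializes_smul] at hvw
    have h1 : algebraMap (X.presheaf.stalk x) X.functionField r = algebraMap (X.presheaf.stalk x) X.functionField s := by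
      rw [RH26.algebraMap_sp, RH26.algebraMap_sp]; exact hgη.1 hvw
    rw [IsFractionRing.injective (X.presheaf.stalk x) X.functionField h1]
  · by_cases hx : x = genericPoint X
    · subst hx
      exact ⟨a, (ConcreteCategory.congr_hom
        (TopCat.Presheaf.stalkSpecializes_refl L.presheaf (genericPoint X)) a).trans rfl⟩
    · exact h x specializes_rfl ((RH26.dim_eq_one_iff x).2 (coheight_one_of_ne hd hx))

end basic

variable {k : Type u} [Field k] [X.Over (Spec (CommRingCat.of k))]
  [IsProper (X ↘ Spec (CommRingCat.of k))] [Smooth (X ↘ Spec (CommRingCat.of k))]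

variable (e : {n : X // n ≠ genericPoint X} ≃ (letI := funAlg (X ↘ Spec (CommRingCat.of k)); Place k X.functionField))

attribute [local instance] CurveCoh17.stalkMod Curv2.resAlgebra

open scoped Classical in
/-- The cycle of a divisor of the function field. -/
noncomputable def cycOf (D : letI := funAlg (X ↘ Spec (CommRingCat.of k)); Divisor k X.functionField) :
    AlgebraicCycle X ℤ :=
  letI := funAlg (X ↘ Spec (CommRingCat.of k))
  { toFun := fun x => if h : x ≠ genericPoint X then D (e ⟨x, h⟩) else 0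
    supportWithinDomain' := Set.subset_univ _
    supportLocallyFiniteWithinDomain' := fun _ _ => ⟨Set.univ, Filter.univ_mem,
      ((D.support.finite_toSet.image fun P => (e.symm P).1).subset fun x hx => by
        obtain ⟨-, hx⟩ := hx
        rw [Function.mem_support] at hx
        by_cases h : x ≠ genericPoint X
        · rw [dif_pos h] at hx
          exact ⟨e ⟨x, h⟩, Finsupp.mem_support_iff.2 hx, congrArg Subtype.val (e.symm_apply_apply ⟨x, h⟩)⟩
        · exact absurd (dif_neg h) hx)⟩ }

theorem cycOf_apply (D : letI := funAlg (X ↘ Spec (CommRingCat.of k)); Divisor k X.functionField)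
    {x : X} (h : x ≠ genericPoint X) : cycOf e D x = (letI := funAlg (X ↘ Spec (CommRingCat.of k)); D (e ⟨x, h⟩)) := by
  classical
  exact dif_pos h

variable (hd : topologicalKrullDim X = 1)

/-- The line bundle of a divisor. -/
noncomputable def lineB (D : letI := funAlg (X ↘ Spec (CommRingCat.of k)); Divisor k X.functionField) : X.Modules :=
  haveI := VB17.isNoetherian_of_over (k := k) (X := X)
  RH26.od (normal_curve k hd) (cycOf e D)

theorem lineB_spec (D : letI := funAlg (X ↘ Spec (CommRingCat.of k)); Divisor k X.functionField) :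
    haveI := VB17.isNoetherian_of_over (k := k) (X := X)
    PicF.IsInvertible (lineB e hd D) ∧ RH26.R1 (lineB e hd D) ∧
      ∃ a : (lineB e hd D).presheaf.stalk (genericPoint X), a ≠ 0 ∧
        ∀ x (h : x ≠ genericPoint X), RH26.ordv (lineB e hd D) x a =
          (letI := funAlg (X ↘ Spec (CommRingCat.of k)); D (e ⟨x, h⟩)) := by
  haveI := VB17.isNoetherian_of_over (k := k) (X := X)
  have hr : RH26.R1 (lineB e hd D) := RH26.r1_od
  refine ⟨RH26.isInvertible_of_gen hr.coh fun x => ?_, hr, _, RH26.oneη_ne_zero, fun x h => ?_⟩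
  · by_cases hx : x = genericPoint X
    · subst hx; exact hr.gen
    · obtain ⟨g, hg, -⟩ := hr.gen_one (coheight_one_of_ne hd hx)
      exact ⟨g, hg⟩
  · exact (RH26.ordv_oneη (coheight_one_of_ne hd h)).trans (cycOf_apply e D h)

variable (ho : ∀ n (z : X.functionField),
  (letI := funAlg (X ↘ Spec (CommRingCat.of k)); (e n).ord z) = CycAlg.ordFrac (X.presheaf.stalk n.1) X.functionField z)

include hd ho in
theorem ord_eq_place {x : X} (h : x ≠ genericPoint X) (f : X.functionField) :
    haveI := VB17.isNoetherian_of_over (k := k) (X := X)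
    Scheme.ord f x = (letI := funAlg (X ↘ Spec (CommRingCat.of k)); (e ⟨x, h⟩).ord f) := by
  haveI := VB17.isNoetherian_of_over (k := k) (X := X)
  exact ((ho _ f).trans (ord_eq_ordFrac (coheight_one_of_ne hd h) f)).symm

include ho in
theorem lineB_iso_iff (D E : letI := funAlg (X ↘ Spec (CommRingCat.of k)); Divisor k X.functionField) :
    Nonempty (lineB e hd D ≅ lineB e hd E) ↔
      (letI := funAlg (X ↘ Spec (CommRingCat.of k)); LE' D E) := by
  letI := funAlg (X ↘ Spec (CommRingCat.of k))
  haveI := VB17.isNoetherian_of_over (k := k) (X := X)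
  have hF := ff_functionField (X ↘ Spec (CommRingCat.of k)) hd
  obtain ⟨-, hD, a, ha, hoa⟩ := lineB_spec e hd D
  obtain ⟨-, hE, b, hb, hob⟩ := lineB_spec e hd E
  rw [le'_iff_mem_prinDivs hF, mem_prinDivs_iff hF]
  constructor
  · rintro ⟨i⟩
    obtain ⟨g, hg⟩ := hE.gen
    obtain ⟨c, hc⟩ := hg.2 b
    simp only at hc
    have hc0 : c ≠ 0 := fun h0 => hb (by rw [← hc, h0, zero_smul])
    obtain ⟨c', hc'⟩ := (RH26.isField_η (X := X)).mul_inv_cancel hc0
    obtain ⟨f, hf⟩ := ((hg.ne_zero_smul c).2 (IsUnit.of_mul_eq_one _ hc')).2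
      (RefHull.stalkMapₗ i.hom (genericPoint X) a)
    simp only [hc] at hf
    have hne : RefHull.stalkMapₗ i.hom (genericPoint X) a ≠ 0 := RH26.R1.map_ne_zero i ha
    have hf0 : (f : X.functionField) ≠ 0 := fun h0 => hne (hf.symm.trans (by rw [show f = 0 from h0, zero_smul]))
    refine ⟨(f : X.functionField)⁻¹, inv_ne_zero hf0, Finsupp.ext fun P => ?_⟩
    obtain ⟨⟨x, hx⟩, rfl⟩ := e.surjective P
    have h1 := hD.ordv_map i (coheight_one_of_ne hd hx) ha
    rw [← hf, hE.ordv_smul (coheight_one_of_ne hd hx) hf0 hb, hoa x hx, hob x hx, ord_eq_place e hd ho hx] at h1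
    rw [Finsupp.sub_apply, div_inv hF, Finsupp.neg_apply, div_apply hF]
    omega
  · rintro ⟨f, hf, hdf⟩
    refine hD.nonempty_iso hE ha (hE.smul_ne_zero (inv_ne_zero hf) hb) fun x hx1 => ?_
    have hx := ne_of_coheight_one hx1
    have h1 := DFunLike.congr_fun hdf (e ⟨x, hx⟩)
    rw [Finsupp.sub_apply, div_apply hF] at h1
    rw [hE.ordv_smul hx1 (inv_ne_zero hf) hb, hoa x hx, hob x hx, RH26.ord_inv hf, ord_eq_place e hd ho hx]
    omega

theorem exists_lineB_iso {L : X.Modules} (hL : PicF.IsInvertible L) :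
    ∃ D : (letI := funAlg (X ↘ Spec (CommRingCat.of k)); Divisor k X.functionField),
      Nonempty (L ≅ lineB e hd D) := by
  letI := funAlg (X ↘ Spec (CommRingCat.of k))
  haveI := VB17.isNoetherian_of_over (k := k) (X := X)
  have hr := r1_of_invertible hd (normal_curve k hd) hL
  obtain ⟨a, ha⟩ := hr.exists_ne_zero
  obtain ⟨E, hE0, hE⟩ := hr.exists_cycle ha
  have hfin : (Function.support fun P : Place k X.functionField => E (e.symm P).1).Finite :=
    ((E.locallyFiniteSupport.finite_inter_support_of_isCompact isCompact_univ).preimage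
      ((Subtype.val_injective.comp e.symm.injective).injOn)).subset fun P hP => ⟨trivial, hP⟩
  obtain ⟨-, hD, b, hb, hob⟩ := lineB_spec e hd (Finsupp.ofSupportFinite _ hfin)
  refine ⟨_, hr.nonempty_iso hD ha hb fun x hx1 => ?_⟩
  rw [← hE x hx1, hob x (ne_of_coheight_one hx1)]
  show E x = E (e.symm (e ⟨x, ne_of_coheight_one hx1⟩)).1
  rw [e.symm_apply_apply]

theorem lineB_add (D E : letI := funAlg (X ↘ Spec (CommRingCat.of k)); Divisor k X.functionField) :
    Nonempty (CohB1.tensorMod (lineB e hd D) (lineB e hd E) ≅ lineB e hd (D + E)) := by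
  haveI := VB17.isNoetherian_of_over (k := k) (X := X)
  letI := funAlg (X ↘ Spec (CommRingCat.of k))
  obtain ⟨hLi, hD, a, ha, hoa⟩ := lineB_spec e hd D
  obtain ⟨hMi, hE, b, hb, hob⟩ := lineB_spec e hd E
  obtain ⟨-, hS, c, hc, hoc⟩ := lineB_spec e hd (D + E)
  have hfz : ∀ {F : X.Modules} {v : F.presheaf.stalk (genericPoint X)}, v ≠ 0 → Cyc26.fmk F _ v ≠ 0 :=
    fun hv h0 => hv (RH26.fmk_injective (h0.trans rfl))
  obtain ⟨w, hw, hwo⟩ := S16092.result X _ _ hLi hMi _ (hfz ha) _ (hfz hb)
  obtain ⟨w, rfl⟩ := RH26.exists_fmk w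
  have hT := r1_of_invertible hd (normal_curve k hd) (M2.isInvertible_tensor hLi hMi)
  refine hT.nonempty_iso hS (s := w) (fun h0 => hw (by rw [h0]; rfl)) hc fun x hx1 => ?_
  have hx := ne_of_coheight_one hx1
  rw [hoc x hx, Finsupp.add_apply, ← hoa x hx, ← hob x hx]
  exact hwo x ((RH26.dim_eq_one_iff x).2 hx1)

/-- The ideal of a point has a rational section with divisor minus the point. -/
theorem exists_pointIdeal_section {k : Type u} [Field k] [X.Over (Spec (CommRingCat.of k))]
    [IsProper (X ↘ Spec (CommRingCat.of k))] [Smooth (X ↘ Spec (CommRingCat.of k))]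
    (hd : topologicalKrullDim X = 1) {x : X} (hx : IsClosed ({x} : Set X)) :
    haveI := VB17.isNoetherian_of_over (k := k) (X := X)
    ∃ a : (ClSub.idealMod (Scheme.IdealSheafData.vanishingIdeal (⟨{x}, hx⟩ : Closeds X))).presheaf.stalk (genericPoint X),
      a ≠ 0 ∧ ∀ y, Order.coheight y = 1 →
        RH26.ordv (ClSub.idealMod (Scheme.IdealSheafData.vanishingIdeal (⟨{x}, hx⟩ : Closeds X))) y a =
          (open scoped Classical in if y = x then (-1 : ℤ) else 0) := by
  classical
  haveI := VB17.isNoetherian_of_over (k := k) (X := X)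
  have hX := normal_curve k hd
  set Z := Scheme.IdealSheafData.vanishingIdeal (⟨{x}, hx⟩ : Closeds X)
  set I := ClSub.idealMod Z
  have hIi : PicF.IsInvertible I := CurveCoh17.isInvertible_pointIdeal hd
    (fun y => haveI := VB17.pid_stalk (k := k) (X := X) hd.le y; inferInstance) hx
  have hS : (ShortComplex.mk (ClSub.idealModι Z) (ClSub.toSubscheme Z) (Limits.kernel.condition _)).ShortExact :=
    M2.shortExact_idealMod Z
  let ι : ∀ y : X, RefHull.StalkHom I (Coh.structureModule X) y := fun y => RefHull.stalkMapₗ (ClSub.idealModι Z) y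
  let q : ∀ y : X, RefHull.StalkHom (Coh.structureModule X) (ClSub.quotMod Z) y := fun y =>
    RefHull.stalkMapₗ (ClSub.toSubscheme Z) y
  have hex : ∀ y, Function.Injective (ι y) ∧ Function.Exact (ι y) (q y) ∧ Function.Surjective (q y) := fun y =>
    Cyc26.stalkLin_exact hS y
  have hzero : ∀ y, y ≠ x → ∀ b : (ClSub.quotMod Z).presheaf.stalk y, b = 0 := fun y hy b =>
    (CurveCoh17.suppIn_quotMod_point hx).zero y (by simpa using hy) b
  have hηx : genericPoint X ≠ x := CurveCoh17.genericPoint_ne_of_isClosed hd hx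
  obtain ⟨a, ha⟩ := ((hex (genericPoint X)).2.1 (RH26.str (genericPoint X) 1)).1 (hzero _ hηx _)
  refine ⟨a, fun h0 => RH26.str_one_ne_zero (ha.symm.trans (by rw [h0, map_zero])), fun y hy => ?_⟩
  obtain ⟨g, hg⟩ := Cyc26.exists_gen hIi y
  have hgη := Cyc26.gen_stalkSpecializes hIi (RH26.gsp y) hg
  set r := (RH26.str y).symm (ι y g) with hr
  have hrange : ∀ s : X.presheaf.stalk y, q y (RH26.str y s) = 0 ↔ r ∣ s := fun s => by
    rw [(hex y).2.1 (RH26.str y s)]
    constructor
    · rintro ⟨v, hv⟩
      obtain ⟨t, rfl⟩ := hg.2 v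
      refine ⟨t, (RH26.str y).injective ?_⟩
      rw [← hv, mul_comm, ← smul_eq_mul, map_smul, map_smul, hr, LinearEquiv.apply_symm_apply]
    · rintro ⟨t, rfl⟩
      exact ⟨t • g, by rw [map_smul, mul_comm, ← smul_eq_mul, map_smul, hr, LinearEquiv.apply_symm_apply]⟩
  haveI := RH26.isDVR_stalk hX hy
  have hspr : (Coh.structureModule X).presheaf.stalkSpecializes (RH26.gsp y) (ι y g) =
      RH26.str (genericPoint X) (X.presheaf.stalkSpecializes (RH26.gsp y) r) := by
    rw [show ι y g = RH26.str y r from ((RH26.str y).apply_symm_apply _).symm,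
      RH26.str_apply, RH26.str_apply, Cyc26.stalkSpecializes_smul_one]
  obtain ⟨φ, hφ⟩ := hgη.2 a
  have hmul : (φ * X.presheaf.stalkSpecializes (RH26.gsp y) r : X.presheaf.stalk (genericPoint X)) = 1 := by
    apply (RH26.str (genericPoint X)).injective
    rw [← ha, ← hφ, ← smul_eq_mul, map_smul, ← hspr, RH26.stalkMapₗ_stalkSpecializes, map_smul]
  have hr0 : r ≠ 0 := fun h0 => by
    rw [h0, map_zero, mul_zero] at hmul
    exact zero_ne_one hmul
  have hmul' : (φ : X.functionField) * algebraMap (X.presheaf.stalk y) X.functionField r = 1 := by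
    rw [RH26.algebraMap_sp]; exact hmul
  have hφ0 : (φ : X.functionField) ≠ 0 := left_ne_zero_of_mul_eq_one hmul'
  have hre : algebraMap (X.presheaf.stalk y) X.functionField r ≠ 0 := right_ne_zero_of_mul_eq_one hmul'
  rw [← hφ, RH26.ordv_gen hy hg hgη hφ0]
  have hsum := Scheme.ord_mul (x := y) hφ0 hre
  rw [hmul', RH26.ord_one] at hsum
  have : Ring.KrullDimLE 1 (X.presheaf.stalk y) := krullDimLE_of_coheight_le hy.le
  split_ifs with hyx
  · subst hyx
    obtain ⟨hkill, b, hb⟩ := CurveCoh17.quot_point_props hx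
    have hmax : ∀ s, r ∣ s ↔ s ∈ maximalIdeal (X.presheaf.stalk y) := fun s => by
      rw [← hrange]
      constructor
      · intro hs
        by_contra hu
        obtain ⟨s', hs'⟩ := (notMem_maximalIdeal.1 hu).exists_left_inv
        obtain ⟨c, hc⟩ := (hex y).2.2 b
        obtain ⟨c, rfl⟩ := (RH26.str y).surjective c
        apply hb
        rw [← hc, show c = (c * s') • s by rw [smul_eq_mul, mul_assoc, hs', mul_one], map_smul, map_smul, hs, smul_zero]
      · intro hs
        rw [show s = s • (1 : X.presheaf.stalk y) by rw [smul_eq_mul, mul_one], map_smul, map_smul]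
        exact hkill s hs _
    have hirr : Irreducible r := (IsDiscreteValuationRing.irreducible_iff_uniformizer r).2 (by
      ext s; rw [Ideal.mem_span_singleton]; exact (hmax s).symm)
    have := (Scheme.ord_eq_iff hy hre).2 (Ring.ordFrac_irreducible hirr)
    omega
  · have hu : IsUnit r := isUnit_of_dvd_one ((hrange 1).1 (hzero y hyx _))
    obtain ⟨r', hr'⟩ := hu.exists_right_inv
    have h1 : 0 ≤ Scheme.ord (algebraMap (X.presheaf.stalk y) X.functionField r) y :=
      CDivLib.one_le_ordHom_of_inStalk hy hre ⟨r, rfl⟩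
    have h2 : 0 ≤ Scheme.ord (φ : X.functionField) y := by
      refine CDivLib.one_le_ordHom_of_inStalk hy hφ0 ⟨r', ?_⟩
      have h3 := congrArg (algebraMap (X.presheaf.stalk y) X.functionField) hr'
      rw [map_mul, map_one] at h3
      exact mul_left_cancel₀ hre (h3.trans (by rw [mul_comm, hmul']))
    omega

variable (he : ∀ n, (letI := funAlg (X ↘ Spec (CommRingCat.of k)); (e n).deg) =
  (letI := ((X.residue n.1).hom.comp (baseStalk (X ↘ Spec (CommRingCat.of k)) n.1).hom).toAlgebra
   Module.finrank k (X.residueField n.1)))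

/-- `χ(I_x) - χ(O) = -[κ(x) : k]`. -/
theorem deg_pointIdeal [IsNoetherian X] (hC : CurveCoh17.CurveLike k X) {x : X} (hx : IsClosed ({x} : Set X)) :
    Curv2.deg k X (ClSub.idealMod (Scheme.IdealSheafData.vanishingIdeal (⟨{x}, hx⟩ : Closeds X))) 1 =
      -(Module.finrank k (X.residueField x) : ℤ) := by
  set Z := Scheme.IdealSheafData.vanishingIdeal (⟨{x}, hx⟩ : Closeds X)
  have hI := hC.adm (CurveCoh17.isCoh_idealMod Z)
  have hQ := CurveCoh17.isCoh_quotMod Z
  have h : Curv2.euler k X (Coh.structureModule X) =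
      Curv2.euler k X (ClSub.idealMod Z) + Curv2.euler k X (ClSub.quotMod Z) :=
    CurveCoh17.euler_add (S := ShortComplex.mk (ClSub.idealModι Z) (ClSub.toSubscheme Z) (Limits.kernel.condition _))
      (M2.shortExact_idealMod Z) hI (hC.adm hQ)
  have h2 := (CurveCoh17.suppIn_quotMod_point hx).euler_eq (k := k) (hC.fin _ hQ 0)
  have h3 := CurveCoh17.finrank_quotMod_point (k := k) hx
  rw [h2, h3] at h
  rw [Curv2.deg, h]
  push_cast
  ring

include he in
theorem deg_lineB (D : letI := funAlg (X ↘ Spec (CommRingCat.of k)); Divisor k X.functionField) :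
    Curv2.deg k X (lineB e hd D) 1 = (letI := funAlg (X ↘ Spec (CommRingCat.of k)); D.deg) := by
  classical
  letI := funAlg (X ↘ Spec (CommRingCat.of k))
  haveI := VB17.isNoetherian_of_over (k := k) (X := X)
  have hC : CurveCoh17.CurveLike k X := VB17.curveLike hd
  let d : Divisor k X.functionField → ℤ := fun D => Curv2.deg k X (lineB e hd D) 1 - D.deg
  have hadd : ∀ D E, d (D + E) = d D + d E := fun D E => by
    obtain ⟨i⟩ := lineB_add e hd D E
    have h := hC.deg_tensor_invertible (lineB_spec e hd D).1 (lineB_spec e hd E).1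
    rw [CurveCoh17.deg_iso i] at h
    simp only [d, h, ← degHom_apply, map_add]
    ring
  let dh : Divisor k X.functionField →+ ℤ := AddMonoidHom.mk' d hadd
  have hpt : ∀ P, dh (Finsupp.single P 1) = 0 := fun P => by
    obtain ⟨⟨x, hx⟩, rfl⟩ := e.surjective P
    have hxc := Curve17.isClosed_singleton hd.le hx
    suffices h : dh (-Finsupp.single (e ⟨x, hx⟩) 1) = 0 by rwa [map_neg, neg_eq_zero] at h
    obtain ⟨a, ha, hoa⟩ := exists_pointIdeal_section (k := k) hd hxc
    obtain ⟨-, hD, b, hb, hob⟩ := lineB_spec e hd (-Finsupp.single (e ⟨x, hx⟩) 1)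
    have hI := r1_of_invertible hd (normal_curve k hd) (CurveCoh17.isInvertible_pointIdeal hd
      (fun y => haveI := VB17.pid_stalk (k := k) (X := X) hd.le y; inferInstance) hxc)
    obtain ⟨i⟩ := hI.nonempty_iso hD ha hb fun y hy => by
      rw [hoa y hy, hob y (ne_of_coheight_one hy), Finsupp.neg_apply, Finsupp.single_apply]
      by_cases hyx : y = x
      · subst hyx; rw [if_pos rfl, if_pos rfl]
      · rw [if_neg hyx, if_neg (fun he' => hyx (congrArg Subtype.val (e.injective he')).symm), neg_zero]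
    show Curv2.deg k X _ 1 - _ = 0
    rw [← CurveCoh17.deg_iso i, deg_pointIdeal hC hxc, ← degHom_apply, map_neg, degHom_apply, deg_single, one_mul, he]
    exact sub_self _
  have hzero : dh = 0 := Finsupp.addHom_ext fun P n => by
    rw [show Finsupp.single P n = n • Finsupp.single P (1 : ℤ) by simp, map_zsmul, hpt, smul_zero]
    rfl
  have h := DFunLike.congr_fun hzero D
  exact sub_eq_zero.1 h

include hd ho he in
theorem picEquiv [Finite k] (hK : letI := funAlg (X ↘ Spec (CommRingCat.of k)); IsFunctionField k X.functionField)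
    (m : ℤ) :
    Nonempty ((letI := funAlg (X ↘ Spec (CommRingCat.of k)); Cl0 k X.functionField) ≃
      {c : PicF.Cl X // ∃ L : X.Modules, PicF.cl L = c ∧ PicF.IsInvertible L ∧ Curv2.deg k X L 1 = m}) := by
  letI := funAlg (X ↘ Spec (CommRingCat.of k))
  have hF := ff hK
  obtain ⟨B, hB⟩ := deg_surjective hK m
  refine ⟨Equiv.ofBijective (fun c => ⟨PicF.cl (lineB e hd (rep c + B)), _, rfl, (lineB_spec e hd _).1, ?_⟩)
    ⟨fun c c' h => ?_, fun ⟨cL, L, hcl, hL, hdeg⟩ => ?_⟩⟩
  · rw [deg_lineB e hd he, ← degHom_apply, map_add, degHom_apply, degHom_apply, deg_rep, hB, zero_add]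
  · have hiso := RH26.nonempty_iso_of_cl (congrArg Subtype.val h)
    rw [lineB_iso_iff e hd ho] at hiso
    have hmem : rep c' + B - B ∈ (degHom k X.functionField).ker := by
      rw [add_sub_cancel_right, AddMonoidHom.mem_ker, degHom_apply, deg_rep]
    have h1 := (le'_rep_iff hF c B (rep c' + B) hmem).1 hiso
    rw [← h1]
    refine (congrArg QuotientAddGroup.mk (Subtype.ext ?_ : _ = Quotient.out c')).trans (Quotient.out_eq c')
    show rep c' + B - B = rep c'
    rw [add_sub_cancel_right]
  · obtain ⟨E, ⟨i⟩⟩ := exists_lineB_iso e hd hL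
    have hmem : E - B ∈ (degHom k X.functionField).ker := by
      rw [AddMonoidHom.mem_ker, map_sub, degHom_apply, degHom_apply, ← deg_lineB e hd he E,
        ← CurveCoh17.deg_iso i, hdeg, hB, sub_self]
    refine ⟨QuotientAddGroup.mk ⟨E - B, hmem⟩, Subtype.ext ?_⟩
    obtain ⟨j⟩ := (lineB_iso_iff e hd ho _ _).2 ((le'_rep_iff hF _ B E hmem).2 rfl)
    show PicF.cl (lineB e hd _) = cL
    rw [← hcl]
    exact Quot.sound ⟨j ≪≫ i.symm⟩

/-- Degree `m` classes of line bundles on a curve over a finite field are counted by the class number. -/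
theorem card_pic_deg [Finite k] [GeometricallyIrreducible (X ↘ Spec (CommRingCat.of k))]
    (hd : topologicalKrullDim X = 1) (m : ℤ) :
    letI := funAlg (X ↘ Spec (CommRingCat.of k))
    Finite {c : PicF.Cl X // ∃ L : X.Modules, PicF.cl L = c ∧ PicF.IsInvertible L ∧ Curv2.deg k X L 1 = m} ∧
      Nonempty {c : PicF.Cl X // ∃ L : X.Modules, PicF.cl L = c ∧ PicF.IsInvertible L ∧ Curv2.deg k X L 1 = m} ∧
      Nat.card {c : PicF.Cl X // ∃ L : X.Modules, PicF.cl L = c ∧ PicF.IsInvertible L ∧ Curv2.deg k X L 1 = m} =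
        classNum k X.functionField := by
  letI := funAlg (X ↘ Spec (CommRingCat.of k))
  obtain ⟨hK, -, -⟩ := curve_data (X ↘ Spec (CommRingCat.of k)) hd
  obtain ⟨e, he, ho⟩ := exists_placeEquiv (X ↘ Spec (CommRingCat.of k)) hd fun n => ((normal_curve k hd) n).2
  obtain ⟨E⟩ := picEquiv e hd ho he hK m
  haveI := finite_cl0 hK
  exact ⟨Finite.of_equiv _ E, E.nonempty_congr.1 ⟨0⟩, (Nat.card_congr E).symm.trans classNum_eq.symm⟩

end Groth.Agent.FunFldRH25
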