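import Groth.Agent.Lib.GeomFF26.Zeta
import Mathlib.RingTheory.PowerSeries.Derivative

/-!
# The number of points in the extensions of the constant field

`N_n = ∑_{deg P ∣ n} deg P` satisfies `n a(n) = ∑_{j} N_j a(n-j)`, hence `N_n = q^n + 1 - ∑ αᵢ^n`.
-/

set_option autoImplicit false

namespace Groth.Agent.FunFldRH25

open WithZero FunFld FunField GeomFF26
open scoped Multiplicative

universe u v

variable {k : Type u} {K : Type v} [Field k] [Field K] [Algebra k K]

variable (k K) in
/-- The number of points with values in the extension of degree `n` of the constant field. -/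
noncomputable def npts (n : ℕ) : ℕ :=
  ∑ᶠ P : Place k K, if P.deg ∣ n then P.deg else 0

variable [Finite k]

theorem npts_eq_sum (h : FF k K) {n : ℕ} (hn : n ≠ 0) (T : Finset (Place k K))
    (hT : ∀ P : Place k K, P.deg ∣ n → P ∈ T) :
    npts k K n = ∑ P ∈ T, if P.deg ∣ n then P.deg else 0 := by
  refine finsum_eq_sum_of_support_subset _ fun P hP => ?_
  rw [Function.mem_support] at hP
  exact hT P (by by_contra hc; exact hP (if_neg hc))

theorem finite_dvd (h : FF k K) {n : ℕ} (hn : n ≠ 0) : {P : Place k K | P.deg ∣ n}.Finite :=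
  (finite_deg_le h n).subset fun _ hP => Nat.le_of_dvd (Nat.pos_of_ne_zero hn) hP

theorem npts_one (h : FF k K) : npts k K 1 = Nat.card {P : Place k K // P.deg = 1} := by
  classical
  have hT := finite_dvd (K := K) h one_ne_zero
  rw [npts_eq_sum h one_ne_zero hT.toFinset fun P hP => hT.mem_toFinset.2 hP,
    Finset.sum_congr rfl (g := fun _ => 1) fun P hP => by
      have h1 : P.deg ∣ 1 := hT.mem_toFinset.1 hP
      rw [if_pos h1, Nat.dvd_one.1 h1], Finset.sum_const, smul_eq_mul, mul_one,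
    ← Nat.card_eq_finsetCard]
  exact Nat.card_congr (Equiv.subtypeEquivRight fun P => by simp)

omit [Finite k] in
/-- Removing `m P` identifies the effective divisors with `m ≤ D P`. -/
theorem card_ge (P : Place k K) (m : ℕ) (n : ℤ) :
    (Nat.card {D : {D : Divisor k K // 0 ≤ D ∧ D.deg = n} // (m : ℤ) ≤ D.1 P} : ℤ) =
      aZ k K (n - m * P.deg) := by
  classical
  rw [aZ, Nat.cast_inj]
  refine Nat.card_congr
    { toFun := fun D => ⟨D.1.1 - Finsupp.single P (m : ℤ), fun Q => ?_, ?_⟩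
      invFun := fun E => ⟨⟨E.1 + Finsupp.single P (m : ℤ), fun Q => ?_, ?_⟩, ?_⟩
      left_inv := fun D => Subtype.ext (Subtype.ext (sub_add_cancel _ _))
      right_inv := fun E => Subtype.ext (add_sub_cancel_right _ _) }
  · have h0 := D.1.2.1 Q
    have hP := D.2
    simp only [Finsupp.coe_zero, Pi.zero_apply, Finsupp.coe_sub, Pi.sub_apply,
      Finsupp.single_apply] at h0 ⊢
    split_ifs with e
    · subst e; omega
    · omega
  · rw [deg_sub, deg_single, D.1.2.2]
  · have h0 := E.2.1 Q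
    simp only [Finsupp.coe_zero, Pi.zero_apply, Finsupp.coe_add, Pi.add_apply,
      Finsupp.single_apply] at h0 ⊢
    split_ifs with e <;> omega
  · rw [deg_add, deg_single, E.2.2]; ring
  · have h0 := E.2.1 P
    simp only [Finsupp.coe_zero, Pi.zero_apply, Finsupp.coe_add, Pi.add_apply,
      Finsupp.single_eq_same] at h0 ⊢
    omega

/-- `n a(n) = ∑ N_j a(n - j)`. -/
theorem n_mul_aZ (h : FF k K) (n : ℕ) :
    (n : ℤ) * aZ k K n = ∑ j ∈ Finset.Icc 1 n, (npts k K j : ℤ) * aZ k K ((n : ℤ) - j) := by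
  classical
  haveI := finite_effDiv (K := K) h n
  letI := Fintype.ofFinite {D : Divisor k K // 0 ≤ D ∧ D.deg = (n : ℤ)}
  set T := (finite_deg_le (K := K) h n).toFinset with hT
  have hmem : ∀ P : Place k K, P ∈ T ↔ P.deg ≤ n := fun P => (finite_deg_le h n).mem_toFinset
  -- each divisor is counted through its multiplicities
  have hD : ∀ D : {D : Divisor k K // 0 ≤ D ∧ D.deg = (n : ℤ)}, (n : ℤ) =
      ∑ P ∈ T, ∑ m ∈ Finset.Icc 1 n, (if (m : ℤ) ≤ D.1 P then (P.deg : ℤ) else 0) := by
    intro D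
    have hle : ∀ P, D.1 P * (P.deg : ℤ) ≤ n := fun P => by
      have h1 := deg_mono (show Finsupp.single P (D.1 P) ≤ D.1 from fun Q => by
        rw [Finsupp.single_apply]; split_ifs with e
        · rw [e]
        · exact D.2.1 Q)
      rwa [deg_single, D.2.2] at h1
    have hsupp : D.1.support ⊆ T := fun P hP => by
      rw [hmem]
      have h0 : 0 ≤ D.1 P := D.2.1 P
      have h1 : D.1 P ≠ 0 := Finsupp.mem_support_iff.1 hP
      have h2 : (P.deg : ℤ) ≤ D.1 P * P.deg := le_mul_of_one_le_left (Int.natCast_nonneg _) (by omega)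
      have := hle P
      omega
    conv_lhs => rw [← D.2.2, deg_eq_sum D.1 T hsupp]
    refine Finset.sum_congr rfl fun P _ => ?_
    rw [← Finset.sum_filter, Finset.sum_const, nsmul_eq_mul]
    congr 1
    have h0 : 0 ≤ D.1 P := D.2.1 P
    have h3 : D.1 P ≤ n := by
      rcases eq_or_ne (D.1 P) 0 with e | e
      · rw [e]; exact Int.natCast_nonneg _
      · have := deg_pos h P
        exact (le_mul_of_one_le_right h0 (by omega)).trans (hle P)
    have hf : (Finset.Icc 1 n).filter (fun m : ℕ => (m : ℤ) ≤ D.1 P) = Finset.Icc 1 (D.1 P).toNat := by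
      ext m; simp only [Finset.mem_filter, Finset.mem_Icc]; omega
    rw [hf, Nat.card_Icc]; omega
  have h1 : (n : ℤ) * aZ k K n =
      ∑ P ∈ T, ∑ m ∈ Finset.Icc 1 n, (P.deg : ℤ) * aZ k K ((n : ℤ) - m * P.deg) := by
    have e : (n : ℤ) * aZ k K n = ∑ _D : {D : Divisor k K // 0 ≤ D ∧ D.deg = (n : ℤ)}, (n : ℤ) := by
      rw [Finset.sum_const, Finset.card_univ, nsmul_eq_mul, aZ, Nat.card_eq_fintype_card, mul_comm]
    rw [e, Finset.sum_congr rfl fun D _ => hD D, Finset.sum_comm]
    refine Finset.sum_congr rfl fun P _ => ?_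
    rw [Finset.sum_comm]
    refine Finset.sum_congr rfl fun m _ => ?_
    rw [← Finset.sum_filter, Finset.sum_const, nsmul_eq_mul, mul_comm, ← card_ge,
      Nat.card_eq_fintype_card, Fintype.card_subtype]
  rw [h1]
  have hN : ∀ j ∈ Finset.Icc 1 n, (npts k K j : ℤ) = ∑ P ∈ T, if P.deg ∣ j then (P.deg : ℤ) else 0 := by
    intro j hj
    rw [Finset.mem_Icc] at hj
    rw [npts_eq_sum h (by omega) T fun P hP =>
      (hmem P).2 ((Nat.le_of_dvd (by omega) hP).trans hj.2)]
    push_cast
    rfl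
  rw [Finset.sum_congr rfl (g := fun j => ∑ P ∈ T,
      (if P.deg ∣ j then (P.deg : ℤ) else 0) * aZ k K ((n : ℤ) - j)) fun j hj => by
    rw [hN j hj, Finset.sum_mul]]
  conv_rhs => rw [Finset.sum_comm]
  refine Finset.sum_congr rfl fun P hP => ?_
  have hpos := deg_pos h P
  conv_rhs => rw [Finset.sum_congr rfl
    (g := fun j : ℕ => if P.deg ∣ j then (P.deg : ℤ) * aZ k K ((n : ℤ) - j) else 0)
    (fun j _ => by rw [ite_mul, zero_mul]), ← Finset.sum_filter]
  rw [← Finset.sum_filter_of_ne (p := fun m : ℕ => m * P.deg ≤ n) fun m _ hne => by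
    by_contra hc
    refine hne ?_
    have hlt : (n : ℤ) < (m : ℤ) * (P.deg : ℤ) := by exact_mod_cast not_le.1 hc
    rw [aZ_neg (show (n : ℤ) - m * P.deg < 0 by linarith), mul_zero]]
  refine Finset.sum_bij (fun m _ => m * P.deg) (fun m hm => ?_) (fun a _ b _ e => ?_) (fun j hj => ?_)
    (fun m _ => by push_cast; ring)
  · simp only [Finset.mem_filter, Finset.mem_Icc] at hm ⊢
    exact ⟨⟨le_trans hm.1.1 (Nat.le_mul_of_pos_right _ hpos), hm.2⟩, dvd_mul_left _ _⟩
  · exact Nat.eq_of_mul_eq_mul_right hpos e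
  · simp only [Finset.mem_filter, Finset.mem_Icc] at hj ⊢
    obtain ⟨⟨hj1, hj2⟩, c, rfl⟩ := hj
    refine ⟨c, ⟨⟨?_, le_trans (Nat.le_mul_of_pos_left _ hpos) hj2⟩, by rw [mul_comm]; exact hj2⟩,
      mul_comm _ _⟩
    rcases Nat.eq_zero_or_pos c with rfl | hc <;> omega

section series

open PowerSeries

/-- `t F' = G F`. -/
def IsDlog (F G : PowerSeries ℂ) : Prop := X * derivative ℂ F = G * F

theorem IsDlog.one : IsDlog 1 0 := by simp [IsDlog]

theorem IsDlog.mul {F₁ F₂ G₁ G₂ : PowerSeries ℂ} (h₁ : IsDlog F₁ G₁) (h₂ : IsDlog F₂ G₂) :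
    IsDlog (F₁ * F₂) (G₁ + G₂) := by
  unfold IsDlog at *
  rw [Derivation.leibniz, smul_eq_mul, smul_eq_mul]
  linear_combination F₂ * h₁ + F₁ * h₂

theorem IsDlog.prod {ι : Type*} (s : Finset ι) (F G : ι → PowerSeries ℂ) (h : ∀ i ∈ s, IsDlog (F i) (G i)) :
    IsDlog (∏ i ∈ s, F i) (∑ i ∈ s, G i) := by
  classical
  induction s using Finset.induction_on with
  | empty => simpa using IsDlog.one
  | insert a s ha ih =>
    rw [Finset.prod_insert ha, Finset.sum_insert ha]
    exact (h a (Finset.mem_insert_self a s)).mul (ih fun i hi => h i (Finset.mem_insert_of_mem hi))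

/-- `∑_{n ≥ 1} a^n t^n`. -/
noncomputable def geo (a : ℂ) : PowerSeries ℂ := mk fun n => if n = 0 then 0 else a ^ n

theorem isDlog_geo (a : ℂ) : IsDlog (1 - C a * X) (-geo a) := by
  unfold IsDlog
  have h1 : X * derivative ℂ (1 - C a * X : PowerSeries ℂ) = -(C a * X) := by
    simp [Derivation.leibniz]; ring
  rw [h1, neg_mul, neg_inj]
  ext n
  rw [mul_sub, mul_one, map_sub, mul_left_comm, coeff_C_mul, coeff_C_mul, geo, coeff_mk]
  rcases n with _ | n
  · simp
  · rw [coeff_succ_mul_X, coeff_mk, coeff_X, if_neg (Nat.succ_ne_zero n)]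
    rcases n with _ | n
    · simp
    · simp [pow_succ]; ring

theorem npts_eq (hK : IsFunctionField k K) (α : Fin (2 * genus k K) → ℂ)
    (hα : PowerSeries.map (Int.castRingHom ℂ) (numerZ k K) =
      ((∏ i, (1 - Polynomial.C (α i) * Polynomial.X) : Polynomial ℂ) : PowerSeries ℂ))
    {n : ℕ} (hn : n ≠ 0) :
    (npts k K n : ℂ) = (Nat.card k : ℂ) ^ n + 1 - ∑ i, α i ^ n := by
  set q : ℂ := (Nat.card k : ℂ)
  set Z : PowerSeries ℂ := PowerSeries.map (Int.castRingHom ℂ) (zetaZ k K) with hZ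
  set S : PowerSeries ℂ := mk fun j => if j = 0 then 0 else (npts k K j : ℂ) with hS
  have hh := ff hK
  have hZc : ∀ j : ℕ, coeff j Z = (aZ k K (j : ℤ) : ℂ) := fun j => by
    rw [hZ, PowerSeries.coeff_map, zetaZ, coeff_mk, eq_intCast]; rfl
  have hSZ : IsDlog Z S := by
    unfold IsDlog
    ext m
    conv_rhs => rw [PowerSeries.coeff_mul, Finset.Nat.sum_antidiagonal_eq_sum_range_succ_mk]
    have hL : coeff m (X * derivative ℂ Z) = (m : ℂ) * coeff m Z := by
      rcases m with _ | m
      · simp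
      · rw [coeff_succ_X_mul, coeff_derivative]; push_cast; ring
    rw [hL, hZc]
    have e := congrArg (fun z : ℤ => (z : ℂ)) (n_mul_aZ (K := K) hh m)
    push_cast at e
    rw [e, Finset.sum_range_succ', hS, coeff_mk, if_pos rfl, zero_mul, add_zero]
    simp only [coeff_mk, if_neg (Nat.succ_ne_zero _), hZc]
    refine Finset.sum_bij (fun j _ => j - 1) (fun j hj => ?_) (fun a ha b hb e => ?_) (fun j hj => ?_) (fun j hj => ?_)
    · rw [Finset.mem_Icc] at hj; rw [Finset.mem_range]; omega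
    · rw [Finset.mem_Icc] at ha hb; omega
    · exact ⟨j + 1, Finset.mem_Icc.2 (by rw [Finset.mem_range] at hj; omega), by omega⟩
    · rw [Finset.mem_Icc] at hj
      rw [show j - 1 + 1 = j by omega, show ((m - j : ℕ) : ℤ) = (m : ℤ) - j by omega]
  have hD : IsDlog ((1 - C 1 * X) * (1 - C q * X) : PowerSeries ℂ) (-geo 1 + -geo q) :=
    (isDlog_geo 1).mul (isDlog_geo q)
  have hL : IsDlog (PowerSeries.map (Int.castRingHom ℂ) (numerZ k K)) (∑ i, -geo (α i)) := by
    rw [hα, ← Polynomial.coeToPowerSeries.ringHom_apply, map_prod]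
    refine IsDlog.prod _ _ _ fun i _ => ?_
    simp only [Polynomial.coeToPowerSeries.ringHom_apply, Polynomial.coe_sub, Polynomial.coe_one,
      Polynomial.coe_mul, Polynomial.coe_C, Polynomial.coe_X]
    exact isDlog_geo (α i)
  have hLZ : PowerSeries.map (Int.castRingHom ℂ) (numerZ k K) = (1 - C 1 * X) * (1 - C q * X) * Z := by
    rw [numerZ, map_mul, map_mul, map_sub, map_sub, map_one, map_mul, PowerSeries.map_X, PowerSeries.map_C,
      hZ, map_one, one_mul, eq_intCast, Int.cast_natCast]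
  have h2 := hD.mul hSZ
  rw [← hLZ] at h2
  have hne : PowerSeries.map (Int.castRingHom ℂ) (numerZ k K) ≠ 0 := fun e => by
    have := congrArg (coeff 0) e
    rw [PowerSeries.coeff_map, coeff_numerZ_zero hK] at this
    simp at this
  have key := mul_right_cancel₀ hne (h2.symm.trans hL)
  have := congrArg (coeff n) key
  simp only [map_add, map_neg, map_sum, geo, hS, coeff_mk, if_neg hn, one_pow,
    Finset.sum_neg_distrib] at this
  linear_combination this

end series

end Groth.Agent.FunFldRH25
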