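import Groth.Agent.Lib.Cyc26.CurveDeg
import Groth.Agent.Lib.FunFldRH25.Euler
import Groth.Agent.Lib.Zeta25.PointCount
import Groth.Agent.Lib.GenusFF17.Main
import Groth.Agent.Lib.VB17.Proper
import Groth.Prelude.Def_Curve
import Groth.Prelude.Def_CurvBase

/-!
# Places of the function field of a curve are its closed points
-/

set_option autoImplicit false
universe u

set_option backward.isDefEq.respectTransparency.types false

open CategoryTheory AlgebraicGeometry IsLocalRing

namespace Groth.Agent.FunFldRH25

open Curve17 Cyc26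

variable {k : Type u} [Field k] {X : Scheme.{u}} [IsIntegral X] (p : X ⟶ Spec (CommRingCat.of k))

theorem exists_placeEquiv [IsProper p] (hd : topologicalKrullDim X = 1)
    (hN : ∀ n : X, IsIntegrallyClosed (X.presheaf.stalk n)) :
    letI := funAlg p
    ∃ e : {n : X // n ≠ genericPoint X} ≃ FunFld.Place k X.functionField, (∀ n, (e n).deg =
      (letI := ((X.residue n.1).hom.comp (baseStalk p n.1).hom).toAlgebra
       Module.finrank k (X.residueField n.1))) ∧
      ∀ n (z : X.functionField), (e n).ord z = CycAlg.ordFrac (X.presheaf.stalk n.1) X.functionField z := by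
  classical
  letI := funAlg p
  haveI : IsLocallyNoetherian X := LocallyOfFiniteType.isLocallyNoetherian p
  haveI hdvr : ∀ n : {n : X // n ≠ genericPoint X}, IsDiscreteValuationRing (X.presheaf.stalk n.1) := fun n => by
    haveI := hN n.1
    exact isDiscreteValuationRing_stalk hd (isClosed_singleton hd.le n.2)
  let v : {n : X // n ≠ genericPoint X} → Valuation X.functionField (WithZero (Multiplicative ℤ)) := fun n =>
    (IsDiscreteValuationRing.maximalIdeal (X.presheaf.stalk n.1)).valuation X.functionField
  have hmem : ∀ n (z : X.functionField),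
      v n z ≤ 1 ↔ ∃ r, algebraMap (X.presheaf.stalk n.1) X.functionField r = z := fun n z => by
    refine ⟨fun h => ?_, ?_⟩
    · rcases ValuationRing.isInteger_or_isInteger (X.presheaf.stalk n.1) z with ⟨r, hr⟩ | ⟨r, hr⟩
      · exact ⟨r, hr⟩
      · rcases eq_or_ne z 0 with rfl | hz
        · exact ⟨0, map_zero _⟩
        have hu : IsUnit r := by
          by_contra hn
          have h1 : v n (algebraMap _ _ r) < 1 :=
            (IsDedekindDomain.HeightOneSpectrum.valuation_lt_one_iff_mem _ r).2 hn
          rw [hr, map_inv₀] at h1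
          exact absurd h (not_le.2 ((inv_lt_one₀ (by simpa [zero_lt_iff] using hz)).1 h1))
        obtain ⟨w, hw⟩ := hu.exists_left_inv
        refine ⟨w, ?_⟩
        have h2 := congrArg (algebraMap (X.presheaf.stalk n.1) X.functionField) hw
        rw [map_mul, hr, map_one] at h2
        exact (eq_comm.1 (inv_eq_of_mul_eq_one_left h2 : z⁻¹⁻¹ = _)).trans (inv_inv z)
    · rintro ⟨r, rfl⟩
      exact IsDedekindDomain.HeightOneSpectrum.valuation_le_one _ r
  let pl : {n : X // n ≠ genericPoint X} → FunFld.Place k X.functionField := fun n =>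
    ⟨v n, fun c => (hmem n _).2 ⟨_, algebraMap_baseStalk p n.1 c⟩,
      IsDedekindDomain.HeightOneSpectrum.valuation_surjective _ _⟩
  have hord : ∀ n (z : X.functionField), (pl n).ord z = CycAlg.ordFrac (X.presheaf.stalk n.1) X.functionField z := by
    intro n z
    have h : IsNoetherianRing (X.presheaf.stalk n.1) ∧ Ring.KrullDimLE 1 (X.presheaf.stalk n.1) ∧
        Nontrivial (X.presheaf.stalk n.1) ∧ IsFractionRing (X.presheaf.stalk n.1) X.functionField :=
      ⟨inferInstance, inferInstance, inferInstance, inferInstance⟩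
    show -WithZero.log (v n z) = _
    rw [CycAlg.ordFrac, dif_pos h]
    simp only [Ring.ordFrac_eq_valuation_inv]
    rcases eq_or_ne (v n z) 0 with hz | hz
    · show -WithZero.log (v n z) = WithZero.recZeroCoe (motive := fun _ => ℤ) 0 (fun z => Multiplicative.toAdd z) (v n z)⁻¹
      rw [hz, inv_zero, WithZero.log_zero, neg_zero]; rfl
    · obtain ⟨a, ha⟩ := WithZero.ne_zero_iff_exists.1 hz
      show -WithZero.log (v n z) = WithZero.recZeroCoe (motive := fun _ => ℤ) 0 (fun z => Multiplicative.toAdd z) (v n z)⁻¹
      rw [← ha, ← WithZero.coe_inv]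
      rfl
  let toO : ∀ n, X.presheaf.stalk n.1 →+* (pl n).O := fun n =>
    (algebraMap (X.presheaf.stalk n.1) X.functionField).codRestrict (pl n).O fun r => (hmem n _).2 ⟨r, rfl⟩
  have htoO : ∀ n, Function.Bijective (toO n) := fun n =>
    ⟨fun a b h => IsFractionRing.injective (X.presheaf.stalk n.1) X.functionField (congrArg Subtype.val h),
      fun ⟨z, hz⟩ => by obtain ⟨r, hr⟩ := (hmem n z).1 hz; exact ⟨r, Subtype.ext hr⟩⟩
  have hP : (ValuativeCriterion ⊓ @QuasiCompact ⊓ @QuasiSeparated ⊓ @LocallyOfFiniteType) p := by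
    rw [← IsProper.eq_valuativeCriterion]; infer_instance
  have hgen : X.fromSpecStalk (genericPoint X) ≫ p = Spec.map (baseStalk p (genericPoint X)) :=
    (SpecMap_baseStalk p _).symm
  let sq : FunFld.Place k X.functionField → ValuativeCommSq p := fun P =>
    { R := P.O
      K := X.functionField
      i₁ := X.fromSpecStalk (genericPoint X)
      i₂ := Spec.map (CommRingCat.ofHom (algebraMap k P.O))
      commSq := ⟨by rw [hgen, ← Spec.map_comp]; rfl⟩ }
  have hspec : ∀ (n : {n : X // n ≠ genericPoint X}) (P : FunFld.Place k X.functionField)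
      (ψ : X.presheaf.stalk n.1 →+* P.O),
      (∀ r, (ψ r : X.functionField) = algebraMap (X.presheaf.stalk n.1) X.functionField r) →
      Spec.map (CommRingCat.ofHom (algebraMap P.O X.functionField)) ≫ Spec.map (CommRingCat.ofHom ψ) ≫
          X.fromSpecStalk n.1 = X.fromSpecStalk (genericPoint X) ∧
        (Spec.map (CommRingCat.ofHom ψ) ≫ X.fromSpecStalk n.1) ≫ p =
          Spec.map (CommRingCat.ofHom (algebraMap k P.O)) := by
    intro n P ψ hψ
    constructor
    · rw [← Category.assoc, ← Spec.map_comp,
        ← Scheme.SpecMap_stalkSpecializes_fromSpecStalk (genericPoint_specializes n.1)]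
      congr 2
      ext r
      exact hψ r
    · rw [Category.assoc, ← SpecMap_baseStalk, ← Spec.map_comp]
      congr 1
      ext c
      exact (hψ _).trans (algebraMap_baseStalk p n.1 c)
  have hinj : Function.Injective pl := by
    intro n m hnm
    have hmemm : ∀ r, algebraMap (X.presheaf.stalk m.1) X.functionField r ∈ (pl n).O := fun r =>
      show _ ∈ (pl n).O by rw [hnm]; exact (hmem m _).2 ⟨r, rfl⟩
    let ψ : X.presheaf.stalk m.1 →+* (pl n).O :=
      (algebraMap (X.presheaf.stalk m.1) X.functionField).codRestrict (pl n).O hmemm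
    have hψloc : IsLocalHom ψ := by
      refine ⟨fun r hr => ?_⟩
      obtain ⟨w, hw⟩ := hr.exists_right_inv
      have hwm : (w : X.functionField) ∈ (pl m).O := by rw [← hnm]; exact w.2
      obtain ⟨w', hw'⟩ := (hmem m _).1 hwm
      refine IsUnit.of_mul_eq_one w' (IsFractionRing.injective (X.presheaf.stalk m.1) X.functionField ?_)
      rw [map_mul, hw', map_one]
      exact congrArg Subtype.val hw
    have hnloc : IsLocalHom (toO n) := ⟨fun r hr => by
      have h1 := hr.map (RingEquiv.ofBijective (toO n) (htoO n)).symm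
      rwa [show (RingEquiv.ofBijective (toO n) (htoO n)).symm (toO n r) = r from
        (RingEquiv.ofBijective (toO n) (htoO n)).symm_apply_apply r] at h1⟩
    obtain ⟨a1, a2⟩ := hspec n (pl n) (toO n) fun r => rfl
    obtain ⟨b1, b2⟩ := hspec m (pl n) ψ fun r => rfl
    haveI := hP.1.1.1.uniqueness (sq (pl n))
    have hl := congrArg CommSq.LiftStruct.l (Subsingleton.elim
      (⟨_, a1, a2⟩ : (sq (pl n)).commSq.LiftStruct) ⟨_, b1, b2⟩)
    have hl' := congrArg (fun g => g (closedPoint (pl n).O)) hl
    change X.fromSpecStalk n.1 (Spec.map (CommRingCat.ofHom (toO n)) (closedPoint _)) =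
      X.fromSpecStalk m.1 (Spec.map (CommRingCat.ofHom ψ) (closedPoint _)) at hl'
    haveI : IsLocalHom (CommRingCat.ofHom (toO n)).hom := hnloc
    haveI : IsLocalHom (CommRingCat.ofHom ψ).hom := hψloc
    rw [Spec_closedPoint, Spec_closedPoint, Scheme.fromSpecStalk_closedPoint, Scheme.fromSpecStalk_closedPoint] at hl'
    exact Subtype.ext hl'
  have hsurj : Function.Surjective pl := by
    intro P
    obtain ⟨⟨l, hl1, hl2⟩⟩ := ((hP.1.1.1.existence (sq P))).exists_lift
    let n := l (closedPoint P.O)
    let ψ := Scheme.stalkClosedPointTo l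
    have hψ : ∀ r, (ψ r : X.functionField) = algebraMap (X.presheaf.stalk n) X.functionField r := by
      have h1 : Spec.map (ψ ≫ CommRingCat.ofHom (algebraMap P.O X.functionField)) ≫ X.fromSpecStalk n =
          Spec.map (X.presheaf.stalkSpecializes (genericPoint_specializes n)) ≫ X.fromSpecStalk n := by
        rw [Scheme.SpecMap_stalkSpecializes_fromSpecStalk, Spec.map_comp, Category.assoc,
          Scheme.Spec_stalkClosedPointTo_fromSpecStalk]
        exact hl1
      rw [cancel_mono] at h1
      intro r
      exact ConcreteCategory.congr_hom (Spec.map_injective h1) r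
    have hne : n ≠ genericPoint X := by
      intro h
      obtain ⟨z, hz⟩ := FunField.exists_not_mem_O P
      obtain ⟨r, rfl⟩ := surjective_algebraMap_generic n h z
      exact hz (hψ r ▸ (ψ r).2)
    refine ⟨⟨n, hne⟩, FunField.eq_of_O_le fun z hz => ?_⟩
    obtain ⟨r, rfl⟩ := (hmem ⟨n, hne⟩ z).1 hz
    exact hψ r ▸ (ψ r).2
  have hdeg : ∀ n, (pl n).deg = (letI := ((X.residue n.1).hom.comp (baseStalk p n.1).hom).toAlgebra
      Module.finrank k (X.residueField n.1)) := by
    intro n
    letI := ((X.residue n.1).hom.comp (baseStalk p n.1).hom).toAlgebra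
    letI := FunFld.Place.algO (pl n)
    letI := FunFld.Place.algRes (pl n)
    let e : X.presheaf.stalk n.1 ≃+* (pl n).O := RingEquiv.ofBijective (toO n) (htoO n)
    let e' : X.residueField n.1 ≃+* IsLocalRing.ResidueField (pl n).O := IsLocalRing.ResidueField.mapEquiv e
    let e'' : X.residueField n.1 ≃ₐ[k] IsLocalRing.ResidueField (pl n).O :=
      AlgEquiv.ofRingEquiv (f := e') fun c => by
        show IsLocalRing.residue (pl n).O (e ((baseStalk p n.1).hom c)) = IsLocalRing.residue (pl n).O (algebraMap k (pl n).O c)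
        exact congrArg _ (Subtype.ext (algebraMap_baseStalk p n.1 c))
    exact e''.toLinearEquiv.finrank_eq.symm
  exact ⟨Equiv.ofBijective pl ⟨hinj, hsurj⟩, hdeg, hord⟩


theorem not_isClosed_genericPoint (hd : topologicalKrullDim X = 1) : ¬ IsClosed ({genericPoint X} : Set X) := by
  intro hcl
  have hall : ∀ y : X, y = genericPoint X := fun y => (genericPoint_specializes y).mem_closed hcl rfl
  haveI : Subsingleton X := ⟨fun a b => (hall a).trans (hall b).symm⟩
  have := topologicalKrullDim_zero_of_discreteTopology X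
  rw [hd] at this
  exact absurd this (by norm_num)

/-- The point counts of the curve are those of its function field. -/
theorem npts_eq_nPts [Finite k] [IsProper p] (hd : topologicalKrullDim X = 1)
    (hN : ∀ n : X, IsIntegrallyClosed (X.presheaf.stalk n)) {m : ℕ} (hm : m ≠ 0) :
    letI := funAlg p
    npts k X.functionField m = Zeta.nPts p m := by
  classical
  letI := funAlg p
  have hF := ff_functionField p hd
  obtain ⟨e, he, -⟩ := exists_placeEquiv p hd hN
  have hdeg : ∀ n, (e n).deg = EGA4loc.residueDegree p n.1 := fun n => by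
    rw [he n, WeilH13.residueDegree_eq_finrank p n.1]
    congr 1
  rw [npts_eq_sum hF hm (finite_dvd hF hm).toFinset fun P hP => (finite_dvd hF hm).mem_toFinset.2 hP,
    Finset.sum_congr rfl (g := fun P : FunFld.Place k X.functionField => P.deg) fun P hP =>
      if_pos (show P.deg ∣ m from (finite_dvd hF hm).mem_toFinset.1 hP),
    ← Finset.sum_fiberwise_of_maps_to (g := fun P : FunFld.Place k X.functionField => P.deg) (t := m.divisors)
      (fun P hP => Nat.mem_divisors.2 ⟨(finite_dvd hF hm).mem_toFinset.1 hP, hm⟩), Zeta.nPts]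
  refine Finset.sum_congr rfl fun d hd' => ?_
  rw [Finset.sum_congr rfl (g := fun _ => d) fun P hP => (Finset.mem_filter.1 hP).2, Finset.sum_const,
    smul_eq_mul, mul_comm, Zeta.degCount, ← Nat.card_eq_finsetCard]
  congr 1
  refine Nat.card_congr
    { toFun := fun P => ⟨(e.symm P.1).1, isClosed_singleton hd.le (e.symm P.1).2, ?_⟩
      invFun := fun x => ⟨e ⟨x.1, fun h => not_isClosed_genericPoint hd (h ▸ x.2.1)⟩, ?_⟩
      left_inv := fun P => Subtype.ext (e.apply_symm_apply P.1)
      right_inv := fun x => by
        refine Subtype.ext ?_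
        show (e.symm (e ⟨x.1, fun h => not_isClosed_genericPoint hd (h ▸ x.2.1)⟩)).1 = x.1
        rw [e.symm_apply_apply] }
  · rw [← hdeg, e.apply_symm_apply]
    exact (Finset.mem_filter.1 P.2).2
  · have h1 : (e ⟨x.1, fun h => not_isClosed_genericPoint hd (h ▸ x.2.1)⟩).deg = d := by rw [hdeg]; exact x.2.2
    exact Finset.mem_filter.2 ⟨(finite_dvd hF hm).mem_toFinset.2
      (show (e _).deg ∣ m from by rw [h1]; exact Nat.dvd_of_mem_divisors hd'), h1⟩

/-- A smooth proper geometrically irreducible curve: function field, genus, point counts. -/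
theorem curve_data [Finite k] [IsProper p] [Smooth p] [GeometricallyIrreducible p]
    (hd : topologicalKrullDim X = 1) :
    letI : X.Over (Spec (CommRingCat.of k)) := ⟨p⟩
    letI := funAlg p
    FunFld.IsFunctionField k X.functionField ∧
      FunFld.genus k X.functionField = Module.finrank k (Coh.HH X (Coh.structureModule X) 1) ∧
      ∀ m : ℕ, m ≠ 0 → npts k X.functionField m = Zeta.nPts p m := by
  letI : X.Over (Spec (CommRingCat.of k)) := ⟨p⟩
  letI := funAlg p
  haveI : IsProper (X ↘ Spec (CommRingCat.of k)) := ‹IsProper p›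
  haveI : Smooth (X ↘ Spec (CommRingCat.of k)) := ‹Smooth p›
  haveI : GeometricallyIrreducible (X ↘ Spec (CommRingCat.of k)) := ‹GeometricallyIrreducible p›
  haveI := GeomRed.geometricallyReduced_of_smooth (k := k) (X := X)
  haveI : GeometricallyConnected (X ↘ Spec (CommRingCat.of k)) := ⟨fun K _ y Z fst snd h => by
    haveI : IrreducibleSpace Z := GeometricallyIrreducible.geometrically_irreducibleSpace y fst snd h
    infer_instance⟩
  have h0 := S1536.result k X
  haveI : IsNoetherian X := VB17.isNoetherian_of_over (k := k)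
  obtain ⟨hK, hg⟩ := GenusFF17.genus_functionField (k := k) (X := X) hd h0
  exact ⟨hK, hg, fun m hm => npts_eq_nPts p hd (fun n => by
    haveI := (VB17.pid_stalk (k := k) (X := X) hd.le n)
    infer_instance) hm⟩

end Groth.Agent.FunFldRH25
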