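import Groth.Agent.Lib.FunFldRH25.Model
import Groth.Agent.S15524

/-!
# The Riemann hypothesis for function fields over finite fields

`|N_n - q^n| = O(q^{n/2})` for the multiples `n` of some `d₀`, hence `|αᵢ| = √q`.
-/

set_option autoImplicit false

namespace Groth.Agent.FunFldRH25

open Polynomial FunFld FunField WithZero LangWeil25
open scoped IntermediateField Multiplicative

universe u v

/-- The bound, with the constants in the same universe as the field. -/
theorem exists_bound_aux {k K : Type u} [Field k] [Finite k] [Field K] [Algebra k K]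
    (hK : IsFunctionField k K) :
    ∃ d₀ : ℕ, 0 < d₀ ∧ ∃ C : ℕ, ∀ n : ℕ, d₀ ∣ n → n ≠ 0 →
      npts k K n ≤ Nat.card k ^ n + C * (Nat.sqrt (Nat.card k ^ n) + 2) ∧
        Nat.card k ^ n ≤ npts k K n + C * (Nat.sqrt (Nat.card k ^ n) + 2) := by
  classical
  letI := Fintype.ofFinite k
  have hF := ff hK
  obtain ⟨M⟩ := exists_model hF (GeomFF26.isGeometric_of_perfect hK.2)
  obtain ⟨Ω, _, τ, β, ι, g, δ, P, i₀, U, hg, hgirr, hgdvd, hgder, hδ0, hτ, hroots, hi₀, hι, hιx, hU⟩ :=
    exists_cover (L := k) M.x M.tr M.sep {M.z}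
  set kb := AlgebraicClosure k
  set h : kb[X][X] := M.h₀.map (mapRingHom (algebraMap k kb)) with hh
  have hhm : h.Monic := M.monic.map _
  have hhd : h.natDegree = M.h₀.natDegree := M.monic.natDegree_map _
  have hhder : derivative h ≠ 0 := by
    rw [hh, derivative_map]
    exact (Polynomial.map_ne_zero_iff (map_injective _ (algebraMap k kb).injective)).2 M.der
  have hτδ : τ δ ≠ 0 := fun e => hδ0 (hτ (e.trans (map_zero τ).symm))
  have hUz : (U M.z).eval₂ τ β / τ δ = ι M.z := by
    rw [← hU M.z (Finset.mem_singleton_self _), mul_div_cancel_right₀ _ hτδ]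
  have hτι : τ.comp (mapRingHom (algebraMap k kb)) = ι.comp (aeval M.x : k[X] →ₐ[k] K).toRingHom := by
    refine Polynomial.ringHom_ext (fun c => ?_) ?_
    · simp only [RingHom.comp_apply, coe_mapRingHom, map_C, AlgHom.toRingHom_eq_coe, RingHom.coe_coe, aeval_C]
      exact (hι c).symm
    · simp only [RingHom.comp_apply, coe_mapRingHom, map_X, AlgHom.toRingHom_eq_coe, RingHom.coe_coe, aeval_X]
      exact hιx.symm
  have hu : h.eval₂ τ ((U M.z).eval₂ τ β / τ δ) = 0 := by
    rw [hUz, hh, eval₂_map, hτι, ← hom_eval₂, M.root, map_zero]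
  have hmin : ∀ w : kb[X][X], w.natDegree < h.natDegree → w.eval₂ τ ((U M.z).eval₂ τ β / τ δ) = 0 → w = 0 :=
    fun w hw h0 => M.geom hK.2 τ hτ ι hι hιx w (hhd ▸ hw) (hUz ▸ h0)
  obtain ⟨hirrh, C₀, hC₀⟩ := card_estimate g hg hgirr hgder τ β hgdvd δ hδ0 P i₀ hroots hi₀ (U M.z) h hhm hhder
    hu hmin
  haveI : IsDomain (AdjoinRoot h) := AdjoinRoot.isDomain_of_prime hirrh.prime
  -- the field of definition
  let co : kb[X][X] → Finset kb := fun p => (Finset.range (p.natDegree + 1)).biUnion fun n =>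
    (Finset.range ((p.coeff n).natDegree + 1)).image fun j => (p.coeff n).coeff j
  set S : Finset kb := co g ∪ co (U M.z) ∪ co (C δ) with hS
  set k₀ : IntermediateField k kb := IntermediateField.adjoin k (S : Set kb)
  haveI : FiniteDimensional k k₀ :=
    IntermediateField.finiteDimensional_adjoin fun a _ => Algebra.IsIntegral.isIntegral a
  haveI : Finite k₀ := Module.finite_of_finite k
  letI := Fintype.ofFinite k₀
  set d₀ := Module.finrank k k₀
  have hd₀ : 0 < d₀ := Module.finrank_pos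
  have hco : ∀ p : kb[X][X], co p ⊆ S → ∀ n j, (p.coeff n).coeff j ∈ k₀ := by
    intro p hp n j
    by_cases hn : n ∈ Finset.range (p.natDegree + 1)
    · by_cases hj : j ∈ Finset.range ((p.coeff n).natDegree + 1)
      · exact IntermediateField.subset_adjoin k _
          (hp (Finset.mem_biUnion.2 ⟨n, hn, Finset.mem_image.2 ⟨j, hj, rfl⟩⟩))
      · rw [coeff_eq_zero_of_natDegree_lt (by simpa using hj)]; exact zero_mem _
    · rw [coeff_eq_zero_of_natDegree_lt (p := p) (by simpa using hn), coeff_zero]; exact zero_mem _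
  have hfix : ∀ a : kb, a ∈ k₀ → ∀ n, d₀ ∣ n → a ^ Nat.card k ^ n = a := by
    rintro a ha n ⟨N, rfl⟩
    have h1 : Fintype.card k₀ = Nat.card k ^ d₀ := by
      rw [← Nat.card_eq_fintype_card, Module.natCard_eq_pow_finrank (K := k)]
    have h2 := FiniteField.pow_card_pow N (⟨a, ha⟩ : k₀)
    rw [h1, ← pow_mul] at h2
    exact congrArg Subtype.val h2
  obtain ⟨p, hpc⟩ := CharP.exists k
  haveI : Fact p.Prime := ⟨CharP.char_is_prime k p⟩
  haveI : CharP kb p := charP_of_injective_algebraMap (algebraMap k kb).injective p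
  obtain ⟨f, -, hf⟩ := FiniteField.card k p
  set Nh := Algebra.norm kb[X] (GG h) with hNh
  have hNh0 : Nh ≠ 0 := norm_ne_zero hhm (fun h0 => by
    refine hhm.not_dvd_of_natDegree_lt hhder ?_ (AdjoinRoot.mk_eq_zero.mp h0)
    refine natDegree_derivative_lt fun e => hhder ?_
    rw [eq_C_of_natDegree_eq_zero e, derivative_C])
  set d := h.natDegree with hd
  set M' := Module.finrank k⟮M.x⁻¹⟯ K
  refine ⟨d₀, hd₀, C₀ + Nh.natDegree * d + M', fun n hn hn0 => ?_⟩
  set Q := Nat.card k ^ n with hQ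
  have hQp : Q = p ^ ((f : ℕ) * n) := by rw [hQ, Nat.card_eq_fintype_card, hf, pow_mul]
  have hQ1 : 1 < Q := Nat.one_lt_pow hn0 (Finite.one_lt_card)
  -- fixed elements
  set A := (X ^ Q - X : kb[X]).roots.toFinset with hA
  have hAmem : ∀ a, a ∈ A ↔ a ^ Q = a := fun a => by
    rw [hA, Multiset.mem_toFinset, mem_roots (FiniteField.X_pow_card_sub_X_ne_zero kb hQ1), IsRoot,
      eval_sub, eval_pow, eval_X, sub_eq_zero]
  have hAcard : A.card = Q := by
    rw [hA, Multiset.toFinset_card_of_nodup (nodup_roots (galois_poly_separable p Q (hQp ▸ dvd_pow_self p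
      (Nat.mul_pos f.2 (Nat.pos_of_ne_zero hn0)).ne'))), IsAlgClosed.card_roots_eq_natDegree,
      FiniteField.X_pow_card_sub_X_natDegree_eq kb hQ1]
  set Good := A.filter fun a => Nh.eval a ≠ 0 with hGood
  have hgood : Q ≤ Good.card + Nh.natDegree := by
    rw [← hAcard]
    refine le_trans ?_ (Nat.add_le_add_left ((Multiset.toFinset_card_le _).trans (card_roots' Nh)) _)
    refine le_trans (Finset.card_le_card fun a ha => ?_) (Finset.card_union_le _ _)
    rw [Finset.mem_union, Multiset.mem_toFinset, mem_roots hNh0, IsRoot, hGood, Finset.mem_filter]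
    tauto
  set All : Finset (kb × kb) := Good.biUnion fun a =>
    ((h.map (evalRingHom a)).roots.toFinset).image fun c => (a, c) with hAll
  have hAllmem : ∀ z, z ∈ All ↔ z.1 ∈ Good ∧ OnCurve h z.1 z.2 := by
    rintro ⟨a, c⟩
    simp only [hAll, Finset.mem_biUnion, Finset.mem_image, Prod.mk.injEq, Multiset.mem_toFinset,
      mem_roots (hhm.map _).ne_zero, IsRoot, eval_map]
    exact ⟨fun ⟨a', ha', b', hb', e1, e2⟩ => e1 ▸ e2 ▸ ⟨ha', hb'⟩,
      fun ⟨ha, hb⟩ => ⟨a, ha, c, hb, rfl, rfl⟩⟩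
  have hAllcard : Good.card * d ≤ All.card := by
    rw [hAll, Finset.card_biUnion]
    · rw [← smul_eq_mul, ← Finset.sum_const]
      refine Finset.sum_le_sum fun a ha => ?_
      rw [Finset.card_image_of_injective _ (fun b b' e => (Prod.mk.inj e).2)]
      obtain ⟨F⟩ := exists_fibre hhm (Finset.mem_filter.mp ha).2
      refine le_trans (le_of_eq (by simp [hd])) (Finset.card_le_card_of_injOn
        (s := (Finset.univ : Finset (Fin h.natDegree))) F.pt (fun i _ => ?_) F.inj.injOn)
      rw [Finset.mem_coe, Multiset.mem_toFinset, mem_roots (hhm.map _).ne_zero, IsRoot, eval_map]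
      exact F.onCurve i
    · intro a _ a' _ hne
      simp only [Function.onFun, Finset.disjoint_left, Finset.mem_image]
      rintro _ ⟨b, -, rfl⟩ ⟨b', -, e⟩
      exact hne (Prod.mk.inj e).1.symm
  set R := All.filter fun z => z.2 ^ Q = z.2 with hR
  obtain ⟨hRle, hleR⟩ := hC₀ p ((f : ℕ) * n) Q hQp hQ1
    (fun j => by simpa [hQ, Nat.card_eq_fintype_card] using hfix _ (hco (C δ) Finset.subset_union_right 0 j) n hn)
    (fun i j => hfix _ (hco g (fun _ ha => Finset.mem_union_left _ (Finset.mem_union_left _ ha)) i j) n hn)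
    (fun i j => hfix _ (hco (U M.z) (fun _ ha => Finset.mem_union_left _ (Finset.mem_union_right _ ha)) i j) n hn)
    R (fun z => by
      rw [hR, Finset.mem_filter, hAllmem, hGood, Finset.mem_filter, hAmem]
      exact ⟨fun ⟨⟨⟨h1, h2⟩, h3⟩, h4⟩ => ⟨h1, h4, h2, h3⟩, fun ⟨h1, h4, h2, h3⟩ => ⟨⟨⟨h1, h2⟩, h3⟩, h4⟩⟩)
  -- the points with `x` in the fixed field
  set q : k[X] := X ^ Q - X with hq
  have hq0 : q ≠ 0 := FiniteField.X_pow_card_sub_X_ne_zero k hQ1
  have hqd : q.natDegree = Q := FiniteField.X_pow_card_sub_X_natDegree_eq k hQ1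
  obtain ⟨hSfin, hScard⟩ := card_zero_le (kb := kb) hF M.tr hq0 (hqd.symm ▸ hQ1.le)
  rw [hqd, M.finrank_eq, ← hhd] at hScard
  set SA := {π : Pt k K kb // π.1.1 M.x ≤ 1 ∧ π.1.1 (aeval M.x q) < 1}
  letI := Fintype.ofFinite SA
  rw [Nat.card_eq_fintype_card] at hScard
  let v : SA → kb × kb := fun π => (π.1.val M.x, π.1.val M.z)
  have hzle : ∀ π : Pt k K kb, π.1.1 M.x ≤ 1 → π.1.1 M.z ≤ 1 := fun π hx =>
    val_le_of_monic M.monic M.root π.1 hx
  have hcurve : ∀ a c : kb, OnCurve h a c ↔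
      M.h₀.eval₂ (aeval a : k[X] →ₐ[k] kb).toRingHom c = 0 := fun a c => by
    rw [OnCurve, hh, eval₂_map]
    have e : (evalRingHom a).comp (mapRingHom (algebraMap k kb)) = (aeval a : k[X] →ₐ[k] kb).toRingHom :=
      RingHom.ext fun r => by simp [aeval_def, eval_map]
    rw [e]
  have hvon : ∀ π : SA, OnCurve h (v π).1 (v π).2 := fun π =>
    (hcurve _ _).2 (π.1.eval₂_val π.2.1 (hzle _ π.2.1) M.h₀ M.root)
  have hvfix : ∀ π : Pt k K kb, π.1.1 M.x ≤ 1 → (π.1.1 (aeval M.x q) < 1 ↔ π.val M.x ^ Q = π.val M.x) := by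
    intro π hx
    obtain ⟨h1, h2⟩ := π.val_aeval hx q
    have := π.ev_eq_zero ⟨_, h1⟩
    rw [← π.val_eq h1, h2, show aeval (π.val M.x) q = π.val M.x ^ Q - π.val M.x by simp [hq], sub_eq_zero] at this
    exact this.symm
  have hsec : ∀ z : All, ∃ π : SA, v π = z := by
    rintro ⟨⟨a, c⟩, hz⟩
    obtain ⟨h1, h2⟩ := (hAllmem _).1 hz
    obtain ⟨π, hx, -, ha, hc⟩ := exists_point hF M.root M.ker ((hcurve a c).1 h2) M.tr
    refine ⟨⟨π, hx, (hvfix π hx).2 ?_⟩, Prod.ext ha hc⟩
    rw [ha]; exact (hAmem a).1 (Finset.mem_filter.1 h1).1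
  choose s hs using hsec
  have hsinj : Function.Injective s := fun z z' e => Subtype.ext (by rw [← hs z, ← hs z', e])
  have hcompl : ((Finset.univ : Finset SA) \ Finset.univ.image s).card ≤ Nh.natDegree * d := by
    rw [Finset.card_sdiff_of_subset (Finset.subset_univ _), Finset.card_image_of_injective _ hsinj,
      Finset.card_univ, Finset.card_univ, Fintype.card_coe]
    have h1 : Q * d ≤ (Good.card + Nh.natDegree) * d := Nat.mul_le_mul_right _ hgood
    rw [add_mul] at h1
    omega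
  -- all the points
  obtain ⟨hPfin, hPcard⟩ := card_pts (kb := kb) hF hn0
  set PN := {π : Pt k K kb // π.1.deg ∣ n}
  letI := Fintype.ofFinite PN
  rw [Nat.card_eq_fintype_card] at hPcard
  have hPfix : ∀ (π : PN) (y : K), π.1.val y ^ Q = π.1.val y := by
    intro π y
    by_cases hy : π.1.1.1 y ≤ 1
    · rw [Pt.val_eq _ hy]; exact (fixed_iff hF π.1 n).2 π.2 _
    · rw [Pt.val, dif_neg hy, zero_pow (by omega)]
  obtain ⟨hXfin, hXcard⟩ := card_zero_le (kb := kb) hF (transcendental_inv M.tr) X_ne_zero (by simp)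
  rw [natDegree_X, one_mul] at hXcard
  have hx0 : M.x ≠ 0 := ne_zero_of_transcendental M.tr
  have hpole : (Finset.univ.filter fun π : PN => ¬ π.1.1.1 M.x ≤ 1).card ≤ M' := by
    have hmaps : ∀ π : PN, ¬ π.1.1.1 M.x ≤ 1 →
        π.1.1.1 M.x⁻¹ ≤ 1 ∧ π.1.1.1 (aeval M.x⁻¹ (X : k[X])) < 1 := fun π hπ => by
      have h1 : π.1.1.1 M.x⁻¹ < 1 := by
        rw [map_inv₀]; exact inv_lt_one_of_one_lt₀ (not_le.1 hπ)
      exact ⟨h1.le, by rwa [aeval_X]⟩
    refine le_trans ?_ hXcard
    rw [← Fintype.card_coe, ← Nat.card_eq_fintype_card]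
    refine Nat.card_le_card_of_injective
      (fun π => ⟨π.1.1, hmaps π.1 (Finset.mem_filter.1 π.2).2⟩) fun π π' e => ?_
    exact Subtype.ext (Subtype.ext (congrArg Subtype.val e :))
  -- upper bound
  have hup : Fintype.card PN ≤ R.card + Nh.natDegree * d + M' := by
    rw [← Finset.card_univ, ← Finset.card_filter_add_card_filter_not (fun π : PN => π.1.1.1 M.x ≤ 1)]
    refine Nat.add_le_add ?_ hpole
    let ι' : PN → SA ⊕ Unit := fun π => if h1 : π.1.1.1 M.x ≤ 1 then
      Sum.inl ⟨π.1, h1, (hvfix _ h1).2 (hPfix π _)⟩ else Sum.inr ()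
    let T : Finset SA := Finset.univ.filter fun π => (v π).2 ^ Q = (v π).2
    refine le_trans (Finset.card_le_card_of_injOn ι' (t := T.map Function.Embedding.inl) ?_ ?_) ?_
    · intro π hπ
      have h1 := (Finset.mem_filter.1 hπ).2
      simp only [ι', dif_pos h1, Finset.mem_coe, Finset.mem_map, T, Finset.mem_filter, Finset.mem_univ, true_and]
      exact ⟨_, hPfix π _, rfl⟩
    · intro π hπ π' hπ' e
      simp only [ι', dif_pos (Finset.mem_filter.1 hπ).2, dif_pos (Finset.mem_filter.1 hπ').2,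
        Sum.inl.injEq] at e
      exact Subtype.ext (congrArg Subtype.val e :)
    · rw [Finset.card_map, ← Finset.card_sdiff_add_card_inter T (Finset.univ.image s), Nat.add_comm]
      refine Nat.add_le_add ?_ ((Finset.card_le_card fun π hπ => ?_).trans hcompl)
      · refine Finset.card_le_card_of_injOn v (fun π hπ => ?_) ?_
        · obtain ⟨h1, h2⟩ := Finset.mem_inter.1 hπ
          obtain ⟨z, -, rfl⟩ := Finset.mem_image.1 h2
          have h3 := (Finset.mem_filter.1 h1).2
          rw [hs] at h3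
          rw [Finset.mem_coe, hs, hR, Finset.mem_filter]
          exact ⟨z.2, h3⟩
        · intro π hπ π' hπ' e
          obtain ⟨z, -, rfl⟩ := Finset.mem_image.1 (Finset.mem_inter.1 hπ).2
          obtain ⟨z', -, rfl⟩ := Finset.mem_image.1 (Finset.mem_inter.1 hπ').2
          rw [hs, hs] at e
          rw [Subtype.ext e]
      · exact Finset.mem_sdiff.2 ⟨Finset.mem_univ _, (Finset.mem_sdiff.1 hπ).2⟩
  -- lower bound
  obtain ⟨Fr, hFr⟩ := exists_frob (k := k) (kb := kb) n
  have hlo : R.card ≤ Fintype.card PN + Nh.natDegree * d := by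
    set R' : Finset All := Finset.univ.filter fun z => z.1.2 ^ Q = z.1.2 with hR'
    have hRR : R.card = R'.card := Finset.card_bij (fun z hz => ⟨z, (Finset.mem_filter.1 hz).1⟩)
      (fun z hz => Finset.mem_filter.2 ⟨Finset.mem_univ _, (Finset.mem_filter.1 hz).2⟩)
      (fun a _ b _ e => congrArg Subtype.val e)
      (fun z hz => ⟨z.1, Finset.mem_filter.2 ⟨z.2, (Finset.mem_filter.1 hz).2⟩, rfl⟩)
    rw [hRR, ← Finset.card_filter_add_card_filter_not (fun z : All => (s z).1.1.deg ∣ n)]
    refine Nat.add_le_add ?_ ?_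
    · rw [← Finset.card_univ (α := PN)]
      rw [← Fintype.card_coe, Finset.card_univ]
      refine Fintype.card_le_of_injective (fun z => (⟨(s z.1).1, (Finset.mem_filter.1 z.2).2⟩ : PN)) ?_
      intro z z' e
      exact Subtype.ext (hsinj (Subtype.ext (congrArg Subtype.val e :)))
    · let tw : Pt k K kb → Pt k K kb := fun π => ⟨π.1, Fr.comp π.2⟩
      have htv : ∀ (π : Pt k K kb) (y : K), π.1.1 y ≤ 1 → (tw π).val y = π.val y ^ Q := fun π y hy => by
        rw [Pt.val_eq (tw π) hy, π.val_eq hy]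
        exact hFr _
      have htS : ∀ z : All, (tw (s z).1).1.1 M.x ≤ 1 ∧ (tw (s z).1).1.1 (aeval M.x q) < 1 := fun z => (s z).2
      refine (Finset.card_le_card_of_injOn (fun z => (⟨tw (s z).1, htS z⟩ : SA)) (fun z hz => ?_) ?_).trans hcompl
      · obtain ⟨hz1, hz2⟩ := Finset.mem_filter.1 hz
        have hzfix := (Finset.mem_filter.1 hz1).2
        refine Finset.mem_coe.2 (Finset.mem_sdiff.2 ⟨Finset.mem_univ _, fun hmem => hz2 ?_⟩)
        obtain ⟨z', -, hz'⟩ := Finset.mem_image.1 hmem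
        have hv : v (⟨tw (s z).1, htS z⟩ : SA) = z.1 := by
          have h1 := hs z
          have hx := (s z).2.1
          refine Prod.ext ?_ ?_
          · show (tw (s z).1).val M.x = _
            rw [htv _ _ hx, (hvfix _ hx).1 (s z).2.2, ← h1]
          · show (tw (s z).1).val M.z = _
            rw [htv _ _ (hzle _ hx), show (s z).1.val M.z = z.1.2 from congrArg Prod.snd h1, hzfix]
        simp only at hz'
        rw [← hz', hs] at hv
        have hzz : z' = z := Subtype.ext hv
        rw [hzz] at hz'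
        have h2 : (s z).1 = tw (s z).1 := congrArg Subtype.val hz'
        refine (fixed_iff hF _ n).1 fun y => ?_
        have h3 : (s z).1.2 = Fr.comp (s z).1.2 := by
          simp only [tw] at h2
          exact eq_of_heq (Sigma.ext_iff.1 h2).2
        conv_rhs => rw [h3]
        exact (hFr _).symm
      · intro z hz z' hz' e
        have hzf := (Finset.mem_filter.1 (Finset.mem_filter.1 hz).1).2
        have hzf' := (Finset.mem_filter.1 (Finset.mem_filter.1 hz').1).2
        have hv : ∀ w : All, w.1.2 ^ Q = w.1.2 → v (⟨tw (s w).1, htS w⟩ : SA) = w.1 := fun w hw => by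
          refine Prod.ext ?_ ?_
          · show (tw (s w).1).val M.x = _
            rw [htv _ _ (s w).2.1, (hvfix _ (s w).2.1).1 (s w).2.2, ← hs w]
          · show (tw (s w).1).val M.z = _
            rw [htv _ _ (hzle _ (s w).2.1), show (s w).1.val M.z = w.1.2 from congrArg Prod.snd (hs w), hw]
        exact Subtype.ext ((hv z hzf).symm.trans ((congrArg v e).trans (hv z' hzf')))
  rw [hPcard] at hup hlo
  have e : (C₀ + Nh.natDegree * d + M') * (Nat.sqrt Q + 2) =
      C₀ * (Nat.sqrt Q + 2) + (Nh.natDegree * d + M') * (Nat.sqrt Q + 2) := by ring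
  have e2 : Nh.natDegree * d + M' ≤ (Nh.natDegree * d + M') * (Nat.sqrt Q + 2) :=
    Nat.le_mul_of_pos_right _ (by omega)
  constructor <;> omega

/-- The constants can be replaced by their image. -/
theorem npts_fieldRange {k : Type u} {K : Type v} [Field k] [Field K] [Algebra k K] (n : ℕ) :
    npts (algebraMap k K).fieldRange K n = npts k K n := by
  let i : k ≃+* (algebraMap k K).fieldRange := RingEquiv.ofBijective (algebraMap k K).rangeRestrictField
    ⟨fun a b e => (algebraMap k K).injective (congrArg Subtype.val e),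
      fun ⟨_, a, rfl⟩ => ⟨a, rfl⟩⟩
  let e : Place k K ≃ Place (algebraMap k K).fieldRange K :=
    { toFun := fun P => ⟨P.1, fun c => by
        obtain ⟨a, ha⟩ := c.2
        show P.1 (c : K) ≤ 1
        rw [← ha]; exact P.2.1 a, P.2.2⟩
      invFun := fun P => ⟨P.1, fun a => P.2.1 (i a), P.2.2⟩
      left_inv := fun _ => rfl
      right_inv := fun _ => rfl }
  have hdeg : ∀ P : Place k K, (e P).deg = P.deg := fun P =>
    (Algebra.finrank_eq_of_equiv_equiv (R₀ := k) (S₀ := IsLocalRing.ResidueField P.O)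
      (R₁ := (algebraMap k K).fieldRange) (S₁ := IsLocalRing.ResidueField (e P).O) i (RingEquiv.refl _)
      (RingHom.ext fun a => rfl)).symm
  unfold npts
  rw [← finsum_comp_equiv e]
  exact finsum_congr fun P => by rw [hdeg]

theorem isFunctionField_fieldRange {k : Type u} {K : Type v} [Field k] [Field K] [Algebra k K]
    (hK : IsFunctionField k K) : IsFunctionField (algebraMap k K).fieldRange K := by
  set L := (algebraMap k K).fieldRange
  letI : Algebra k L := (algebraMap k K).rangeRestrictField.toAlgebra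
  haveI : IsScalarTower k L K := IsScalarTower.of_algebraMap_eq fun _ => rfl
  haveI : Module.Finite k L := Module.Finite.of_surjective (Algebra.linearMap k L)
    fun ⟨_, a, rfl⟩ => ⟨a, rfl⟩
  haveI : Algebra.IsAlgebraic k L := Algebra.IsAlgebraic.of_finite k L
  obtain ⟨⟨x, hx, hfin⟩, hcl⟩ := hK
  refine ⟨⟨x, hx.extendScalars L, ?_⟩, fun y hy => ?_⟩
  · have hle : IntermediateField.adjoin k ({x} : Set K) ≤
        (IntermediateField.adjoin L ({x} : Set K)).restrictScalars k := by
      rw [IntermediateField.adjoin_simple_le_iff]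
      exact IntermediateField.subset_adjoin L _ rfl
    haveI := hfin
    letI : Algebra (IntermediateField.adjoin k ({x} : Set K)) (IntermediateField.adjoin L ({x} : Set K)) :=
      ((algebraMap (IntermediateField.adjoin k ({x} : Set K)) K).codRestrict
        (IntermediateField.adjoin L ({x} : Set K)).toSubfield.toSubring fun a => hle a.2).toAlgebra
    haveI : IsScalarTower (IntermediateField.adjoin k ({x} : Set K)) (IntermediateField.adjoin L ({x} : Set K)) K :=
      IsScalarTower.of_algebraMap_eq fun _ => rfl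
    exact Module.Finite.of_restrictScalars_finite (IntermediateField.adjoin k ({x} : Set K)) _ K
  · obtain ⟨a, ha⟩ := hcl y (hy.restrictScalars k)
    exact ⟨algebraMap k L a, ha⟩

variable {k : Type u} {K : Type v} [Field k] [Finite k] [Field K] [Algebra k K]

theorem exists_bound (hK : IsFunctionField k K) :
    ∃ d₀ : ℕ, 0 < d₀ ∧ ∃ C : ℕ, ∀ n : ℕ, d₀ ∣ n → n ≠ 0 →
      npts k K n ≤ Nat.card k ^ n + C * (Nat.sqrt (Nat.card k ^ n) + 2) ∧
        Nat.card k ^ n ≤ npts k K n + C * (Nat.sqrt (Nat.card k ^ n) + 2) := by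
  set L := (algebraMap k K).fieldRange
  let i : k ≃ L := Equiv.ofBijective (algebraMap k K).rangeRestrictField
    ⟨fun a b e => (algebraMap k K).injective (congrArg Subtype.val e), fun ⟨_, a, rfl⟩ => ⟨a, rfl⟩⟩
  haveI : Finite L := Finite.of_equiv k i
  obtain ⟨d₀, hd₀, C, hC⟩ := exists_bound_aux (isFunctionField_fieldRange hK)
  refine ⟨d₀, hd₀, C, fun n h1 h2 => ?_⟩
  rw [← npts_fieldRange, Nat.card_congr i]
  exact hC n h1 h2

/-- The Riemann hypothesis. -/
theorem norm_sq_eq (hK : IsFunctionField k K) (α : Fin (2 * genus k K) → ℂ)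
    (hα : PowerSeries.map (Int.castRingHom ℂ) (numerZ k K) =
      ((∏ i, (1 - Polynomial.C (α i) * Polynomial.X) : Polynomial ℂ) : PowerSeries ℂ))
    (σ : Equiv.Perm (Fin (2 * genus k K))) (hσ : ∀ i, α (σ i) * α i = (Nat.card k : ℂ))
    (i : Fin (2 * genus k K)) : ‖α i‖ ^ 2 = Nat.card k := by
  obtain ⟨d₀, hd₀, C, hC⟩ := exists_bound hK
  refine S15524.result (Nat.card k) Nat.card_pos α σ hσ d₀ hd₀ (3 * C + 1) (fun N hN => ?_) i
  set n := d₀ * N
  have hn : n ≠ 0 := Nat.mul_ne_zero hd₀.ne' (by omega)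
  obtain ⟨h1, h2⟩ := hC n (dvd_mul_right _ _) hn
  have key := npts_eq hK α hα hn
  set Q : ℕ := Nat.card k ^ n
  set r : ℝ := Real.sqrt (Q : ℝ)
  have hr : (1 : ℝ) ≤ r := Real.one_le_sqrt.2 (by exact_mod_cast Nat.one_le_pow n _ Nat.card_pos)
  have hpow : ((Nat.card k : ℝ) ^ ((d₀ : ℝ) * N / 2)) = r := by
    simp only [r, Q, n, Real.sqrt_eq_rpow, Nat.cast_pow]
    rw [← Real.rpow_natCast, ← Real.rpow_mul (Nat.cast_nonneg _)]
    congr 1
    push_cast
    ring
  rw [hpow]
  have hs : (Nat.sqrt Q : ℝ) ≤ r := Real.nat_sqrt_le_real_sqrt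
  have e : (∑ i, α i ^ (d₀ * N)) = (((Q : ℝ) + 1 - (npts k K n : ℝ) : ℝ) : ℂ) := by
    push_cast [Q]
    rw [key]
    ring
  rw [e, Complex.norm_real, Real.norm_eq_abs]
  have h1' : (npts k K n : ℝ) ≤ Q + C * (Nat.sqrt Q + 2) := by exact_mod_cast h1
  have h2' : (Q : ℝ) ≤ npts k K n + C * (Nat.sqrt Q + 2) := by exact_mod_cast h2
  have h3 : (C : ℝ) * (Nat.sqrt Q + 2) ≤ C * (3 * r) := by gcongr; linarith
  rw [abs_le]
  constructor <;> nlinarith [Nat.cast_nonneg (α := ℝ) C]

end Groth.Agent.FunFldRH25
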