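import Groth.Agent.Lib.FunFldRH25.CurvePlaces
import Groth.Agent.Lib.FunFldRH25.Main
import Groth.Prelude.Def_SgaExt

/-!
# The Weil conjectures for curves
-/

set_option autoImplicit false
universe u

open CategoryTheory AlgebraicGeometry

namespace Groth.Agent.FunFldRH25

theorem weil_curve {k : Type u} [Field k] [Finite k] {C : Scheme.{u}}
    (f : C ⟶ Spec (CommRingCat.of k)) (hC : Curve.IsSmoothProperCurve k C f)
    [GeometricallyIrreducible f] (g : ℕ)
    (hg : Nat.card (Coh.HH C (Coh.structureModule C) 1) = Nat.card k ^ g) :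
    ∃ α : Fin (2 * g) → ℂ, (∀ i, IsIntegral ℤ (α i)) ∧ (∀ i, ‖α i‖ ^ 2 = Nat.card k) ∧
      (∀ i, α (Fin.revPerm i) * α i = Nat.card k) ∧
      ∀ (k' : Type u) [Field k'] [Algebra k k'] [Finite k'],
        (SgaExt.pointCount f k' : ℂ) =
          (Nat.card k : ℂ) ^ Module.finrank k k' + 1 - ∑ i, α i ^ Module.finrank k k' := by
  obtain ⟨hp, hs, hi, hd⟩ := hC
  haveI := hp
  haveI := hs
  haveI := hi
  letI : C.Over (Spec (CommRingCat.of k)) := ⟨f⟩
  letI := Curve17.funAlg f
  obtain ⟨hK, hgen, hN⟩ := curve_data f hd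
  have hgg : FunFld.genus k C.functionField = g := by
    rw [hgen]
    haveI : Finite (Coh.HH C (Coh.structureModule C) 1) :=
      Nat.finite_of_card_ne_zero (by rw [hg]; exact pow_ne_zero _ Nat.card_pos.ne')
    haveI : Module.Finite k (Coh.HH C (Coh.structureModule C) 1) := Module.Finite.of_finite
    refine Nat.pow_right_injective (Finite.one_lt_card (α := k)) ?_
    show Nat.card k ^ _ = Nat.card k ^ g
    rw [← Module.natCard_eq_pow_finrank, hg]
  subst hgg
  obtain ⟨α, hint, hα, hσ⟩ := GeomFF26.exists_reciprocal_roots hK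
  have hσ' : ∀ i, α (Fin.revPerm i) * α i = (Nat.card k : ℂ) := fun i => by
    rw [Fin.revPerm_apply, mul_comm]; exact hσ i
  refine ⟨α, hint, fun i => norm_sq_eq hK α hα Fin.revPerm hσ' i, hσ', fun k' _ _ _ => ?_⟩
  haveI : Module.Finite k k' := Module.Finite.of_finite
  rw [Zeta25.pointCount_eq_nPts f k', ← hN _ Module.finrank_pos.ne', npts_eq hK α hα Module.finrank_pos.ne']

end Groth.Agent.FunFldRH25
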