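import Groth.Agent.Lib.FunFldRH25.DlogUnique
import Groth.Agent.Lib.FunFldRH25.CurvePlaces
import Groth.Agent.Lib.Zeta25.ZetaSeries

/-!
# The zeta function of a curve is that of its function field
-/

set_option autoImplicit false
universe u

open CategoryTheory AlgebraicGeometry

namespace Groth.Agent.FunFldRH25

open PowerSeries

theorem map_derivative (F : PowerSeries ℚ) :
    PowerSeries.map (Rat.castHom ℂ) (derivative ℚ F) = derivative ℂ (PowerSeries.map (Rat.castHom ℂ) F) := by
  ext n
  simp [coeff_derivative]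

theorem isDlog_zetaFun {k : Type u} [Field k] {C : Scheme.{u}} (f : C ⟶ Spec (CommRingCat.of k)) :
    IsDlog (PowerSeries.map (Rat.castHom ℂ) (Zeta.zetaFun f)) (mk fun n => (Zeta.nPts f n : ℂ)) := by
  have h0 : constantCoeff (Zeta.logZeta f) = 0 := by
    rw [← coeff_zero_eq_constantCoeff_apply, Zeta.logZeta, coeff_mk]; simp
  have h1 : X * derivative ℚ (Zeta.logZeta f) = mk fun n => (Zeta.nPts f n : ℚ) := by
    ext n
    rcases n with _ | n
    · simp [Zeta.nPts]
    · rw [coeff_succ_X_mul, coeff_derivative, Zeta.logZeta, coeff_mk, coeff_mk]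
      have : ((n + 1 : ℕ) : ℚ) ≠ 0 := Nat.cast_ne_zero.2 n.succ_ne_zero
      push_cast at this ⊢
      field_simp
  have h2 : X * derivative ℚ (Zeta.zetaFun f) = (mk fun n => (Zeta.nPts f n : ℚ)) * Zeta.zetaFun f := by
    rw [Zeta25.zetaFun_eq, Zeta25.derivative_expL h0, ← h1]; ring
  have h3 := congrArg (PowerSeries.map (Rat.castHom ℂ)) h2
  rw [map_mul, map_mul, PowerSeries.map_X, map_derivative] at h3
  refine h3.trans ?_
  congr 1

theorem zetaFun_mul_eq {k : Type u} [Field k] [Finite k] {C : Scheme.{u}} [IsIntegral C]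
    (f : C ⟶ Spec (CommRingCat.of k)) [IsProper f] [Smooth f] [GeometricallyIrreducible f]
    (hd : topologicalKrullDim C = 1) :
    letI := Curve17.funAlg f
    Zeta.zetaFun f * ((1 - X) * (1 - PowerSeries.C (Nat.card k : ℚ) * X)) =
      PowerSeries.map (Int.castRingHom ℚ) (FunFld.numerZ k C.functionField) := by
  letI := Curve17.funAlg f
  obtain ⟨hK, -, hN⟩ := curve_data f hd
  obtain ⟨α, -, hα, -⟩ := GeomFF26.exists_reciprocal_roots hK
  refine PowerSeries.map_injective (Rat.castHom ℂ) (Rat.castHom ℂ).injective ?_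
  rw [map_mul, map_mul, map_sub, map_sub, map_one, map_mul, PowerSeries.map_X, PowerSeries.map_C]
  have hZ0 : constantCoeff (PowerSeries.map (Rat.castHom ℂ) (Zeta.zetaFun f)) = 1 := by
    rw [← coeff_zero_eq_constantCoeff_apply, coeff_map, coeff_zero_eq_constantCoeff_apply, Zeta25.zetaFun_eq,
      Zeta25.constantCoeff_expL, map_one]
    rw [← coeff_zero_eq_constantCoeff_apply, Zeta.logZeta, coeff_mk]; simp
  have hcomp : PowerSeries.map (Rat.castHom ℂ) (PowerSeries.map (Int.castRingHom ℚ) (FunFld.numerZ k C.functionField)) =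
      PowerSeries.map (Int.castRingHom ℂ) (FunFld.numerZ k C.functionField) := by ext n; simp
  rw [hcomp]
  have hG : IsDlog (PowerSeries.map (Int.castRingHom ℂ) (FunFld.numerZ k C.functionField)) (∑ i, -geo (α i)) := by
    rw [hα, ← Polynomial.coeToPowerSeries.ringHom_apply, map_prod]
    refine IsDlog.prod _ _ _ fun i _ => ?_
    simp only [Polynomial.coeToPowerSeries.ringHom_apply, Polynomial.coe_sub, Polynomial.coe_one,
      Polynomial.coe_mul, Polynomial.coe_C, Polynomial.coe_X]
    exact isDlog_geo (α i)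
  have hF := (isDlog_zetaFun f).mul ((isDlog_geo 1).mul (isDlog_geo (Nat.card k : ℂ)))
  rw [map_one, one_mul] at hF
  rw [map_natCast]
  have hS : ((mk fun n => (Zeta.nPts f n : ℂ)) + (-geo 1 + -geo (Nat.card k : ℂ))) = ∑ i, -geo (α i) := by
    ext n
    rcases Nat.eq_zero_or_pos n with rfl | hn
    · simp [geo, Zeta.nPts]
    · simp only [map_add, map_neg, map_sum, geo, coeff_mk, if_neg hn.ne', one_pow, Finset.sum_neg_distrib]
      rw [← hN n hn.ne', npts_eq hK α hα hn.ne']
      ring
  rw [hS] at hF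
  refine hF.unique hG (by simp [geo]) ?_
  rw [map_mul, hZ0, one_mul, ← coeff_zero_eq_constantCoeff_apply (φ := PowerSeries.map _ _), coeff_map,
    GeomFF26.coeff_numerZ_zero hK]
  simp

end Groth.Agent.FunFldRH25
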