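import Groth.Agent.Lib.FunFldRH25.Euler

/-! # Uniqueness of a series with given logarithmic derivative -/

set_option autoImplicit false

namespace Groth.Agent.FunFldRH25

open PowerSeries

theorem IsDlog.unique {F G S : PowerSeries ℂ} (hF : IsDlog F S) (hG : IsDlog G S)
    (hS : constantCoeff S = 0) (h0 : constantCoeff F = constantCoeff G) : F = G := by
  ext n
  induction n using Nat.strong_induction_on with
  | _ n ih =>
    rcases n with _ | n
    · rwa [coeff_zero_eq_constantCoeff_apply, coeff_zero_eq_constantCoeff_apply]
    have key : ∀ H : PowerSeries ℂ, IsDlog H S →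
        ((n + 1 : ℕ) : ℂ) * coeff (n + 1) H =
          ∑ i ∈ Finset.range (n + 1), coeff (i + 1) S * coeff (n - i) H := fun H hH => by
      have := congrArg (coeff (n + 1)) hH
      rw [coeff_succ_X_mul, coeff_derivative, coeff_mul,
        Finset.Nat.sum_antidiagonal_eq_sum_range_succ_mk, Finset.sum_range_succ',
        coeff_zero_eq_constantCoeff_apply, hS, zero_mul, add_zero] at this
      simp only [Nat.add_sub_add_right] at this
      rw [← this]; push_cast; ring
    refine mul_left_cancel₀ (show ((n + 1 : ℕ) : ℂ) ≠ 0 from Nat.cast_ne_zero.2 n.succ_ne_zero) ?_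
    rw [key F hF, key G hG]
    exact Finset.sum_congr rfl fun i hi => by rw [ih (n - i) (by omega)]

end Groth.Agent.FunFldRH25
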