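import Groth.Agent.Lib.FunFldRH25.Points
import Groth.Agent.Lib.FunFldRH25.CoverCount
import Groth.Agent.Lib.GeomFF26.Basic
import Groth.Agent.Lib.GeomFF26.Perfect
import Groth.Agent.Lib.FunField.Singular26

/-!
# A plane model of a function field over a finite field

`h₀(x, z) = 0` with `x` separating, `z` integral over `k[x]`, and `h₀` absolutely minimal.
-/

set_option autoImplicit false

namespace Groth.Agent.FunFldRH25

open Polynomial FunFld FunField FunField.Singular
open scoped TensorProduct IntermediateField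

universe u

variable {k K : Type u} [Field k] [Field K] [Algebra k K]

/-- A plane model. -/
structure Model (k K : Type u) [Field k] [Field K] [Algebra k K] where
  x : K
  z : K
  h₀ : k[X][X]
  tr : Transcendental k x
  sep : ∀ y : K, IsSeparable k⟮x⟯ y
  monic : h₀.Monic
  root : h₀.eval₂ (aeval x : k[X] →ₐ[k] K).toRingHom z = 0
  ker : ∀ w : k[X][X], w.eval₂ (aeval x : k[X] →ₐ[k] K).toRingHom z = 0 → h₀ ∣ w
  finrank_eq : Module.finrank k⟮x⟯ K = h₀.natDegree
  der : derivative h₀ ≠ 0

theorem exists_model (h : FF k K) (hg : IsGeometric k K) : Nonempty (Model k K) := by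
  classical
  obtain ⟨x, hx, hsep⟩ := GeomFF26.exists_separating h hg
  haveI := h.finiteDimensional hx
  haveI := hsep
  obtain ⟨z, hzint, hztop⟩ := exists_integral_generator (k := k) x
  letI : Algebra k[X] K := (aeval x : k[X] →ₐ[k] K).toRingHom.toAlgebra
  have hinj : Function.Injective (algebraMap k[X] K) := transcendental_iff_injective.mp hx
  haveI : FaithfulSMul k[X] K := (faithfulSMul_iff_algebraMap_injective _ _).2 hinj
  -- integrality over `k[X]`
  obtain ⟨p, hp, hpz⟩ := hzint
  have hl : p.map (algebraMap (Algebra.adjoin k ({x} : Set K)) K) ∈ lifts (algebraMap k[X] K) := by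
    rw [lifts_iff_coeff_lifts]
    intro n
    rw [coeff_map]
    exact (SetLike.ext_iff.1 (Algebra.adjoin_singleton_eq_range_aeval k x) _).1 (p.coeff n).2
  obtain ⟨p', hp', -, hp'm⟩ := lifts_and_natDegree_eq_and_monic hl (hp.map _)
  have hint : IsIntegral k[X] z := ⟨p', hp'm, by rw [← eval_map, hp', eval_map]; exact hpz⟩
  set h₀ := minpoly k[X] z with hh₀
  have hker : ∀ w : k[X][X], w.eval₂ (aeval x : k[X] →ₐ[k] K).toRingHom z = 0 → h₀ ∣ w := fun w hw =>
    minpoly.isIntegrallyClosed_dvd hint hw
  -- the minimal polynomial over `k(x)` is `h₀`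
  let φ : k[X] →+* k⟮x⟯ := (aeval x : k[X] →ₐ[k] K).toRingHom.codRestrict k⟮x⟯.toSubfield.toSubring
    fun q => IntermediateField.algebra_adjoin_le_adjoin k _ (by
      rw [Algebra.adjoin_singleton_eq_range_aeval]; exact ⟨q, rfl⟩)
  have hφ : (algebraMap k⟮x⟯ K).comp φ = (aeval x : k[X] →ₐ[k] K).toRingHom := RingHom.ext fun q => rfl
  have hφinj : Function.Injective φ := fun a b e => hinj (congrArg Subtype.val e)
  have hzE : IsIntegral k⟮x⟯ z := Algebra.IsIntegral.isIntegral z
  set m := minpoly k⟮x⟯ z with hm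
  have hdvd : m ∣ h₀.map φ := minpoly.dvd _ _ (by
    rw [aeval_def, eval₂_map, hφ]; exact minpoly.aeval k[X] z)
  -- clear the denominators of `m`
  have hfrac : ∀ e : k⟮x⟯, ∃ r s : k[X], φ s ≠ 0 ∧ e * φ s = φ r := fun e => by
    obtain ⟨r, s, he⟩ := (IntermediateField.mem_adjoin_simple_iff k (e : K)).1 e.2
    by_cases hs : s = 0
    · refine ⟨0, 1, by simp, ?_⟩
      rw [hs, map_zero, div_zero] at he
      exact Subtype.ext (by simp [he])
    · refine ⟨r, s, fun e0 => hs (hφinj (e0.trans (map_zero φ).symm)), Subtype.ext ?_⟩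
      show (e : K) * aeval x s = aeval x r
      rw [he, div_mul_cancel₀ _ (aeval_ne_zero hx hs)]
  choose r s hs hrs using hfrac
  set M := m.natDegree
  set D := ∏ i ∈ Finset.range (M + 1), s (m.coeff i)
  let w : k[X][X] := ∑ i ∈ Finset.range (M + 1),
    C (r (m.coeff i) * ∏ j ∈ (Finset.range (M + 1)).erase i, s (m.coeff j)) * X ^ i
  have hwm : w.map φ = C (φ D) * m := by
    conv_rhs => rw [m.as_sum_range_C_mul_X_pow, Finset.mul_sum]
    simp only [w, Polynomial.map_sum]
    refine Finset.sum_congr rfl fun i hi => ?_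
    rw [Polynomial.map_mul, Polynomial.map_C, Polynomial.map_pow, Polynomial.map_X, ← mul_assoc, ← C_mul,
      map_mul, ← hrs (m.coeff i)]
    congr 2
    simp only [D]
    rw [← Finset.mul_prod_erase _ _ hi, map_mul]
    ring
  have hD : φ D ≠ 0 := by
    rw [map_prod]; exact Finset.prod_ne_zero_iff.2 fun i _ => hs _
  have hw0 : w ≠ 0 := fun e => by
    rw [e, Polynomial.map_zero] at hwm
    exact (mul_ne_zero (C_ne_zero.2 hD) (minpoly.ne_zero hzE)) hwm.symm
  have hwz : w.eval₂ (aeval x : k[X] →ₐ[k] K).toRingHom z = 0 := by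
    rw [← hφ, ← eval₂_map, hwm, eval₂_mul]
    exact mul_eq_zero_of_right _ (minpoly.aeval k⟮x⟯ z)
  have hmon : h₀.Monic := minpoly.monic hint
  have hdeg : h₀.natDegree ≤ M := by
    refine (natDegree_le_of_dvd (hker w hwz) hw0).trans ?_
    refine natDegree_sum_le_of_forall_le _ _ fun i hi => ?_
    exact (natDegree_C_mul_X_pow_le _ _).trans (by rw [Finset.mem_range] at hi; omega)
  have heq : h₀.map φ = m := by
    refine (eq_of_monic_of_associated (hmon.map φ) (minpoly.monic hzE) ?_)
    exact (associated_of_dvd_of_natDegree_le hdvd (hmon.map φ).ne_zero (by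
      rw [hmon.natDegree_map]; exact hdeg)).symm
  have hder : derivative h₀ ≠ 0 := fun e => by
    have h1 := congrArg (Polynomial.map φ) e
    rw [← derivative_map, heq, Polynomial.map_zero] at h1
    exact (Polynomial.separable_iff_derivative_ne_zero (minpoly.irreducible hzE)).1
      (Algebra.IsSeparable.isSeparable k⟮x⟯ z) h1
  refine ⟨⟨x, z, h₀, hx, fun y => Algebra.IsSeparable.isSeparable k⟮x⟯ y, hmon, minpoly.aeval _ _, hker, ?_, hder⟩⟩
  rw [← hmon.natDegree_map φ, heq, ← IntermediateField.adjoin.finrank hzE, hztop, IntermediateField.finrank_top']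

/-- The image of `K` in an algebraically closed field stays linearly disjoint from the constants:
a relation of degree `< deg h₀` over `k̄[X]` is trivial. -/
theorem Model.geom (M : Model k K) (hcl : ∀ y : K, IsAlgebraic k y → y ∈ Set.range (algebraMap k K))
    [Finite k] {Ω : Type u} [Field Ω] (τ : (AlgebraicClosure k)[X] →+* Ω) (hτ : Function.Injective τ)
    (ι : K →+* Ω) (hι : ∀ c, ι (algebraMap k K c) = τ (C (algebraMap k (AlgebraicClosure k) c)))
    (hιx : ι M.x = τ X) (w : (AlgebraicClosure k)[X][X]) (hw : w.natDegree < M.h₀.natDegree)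
    (h0 : w.eval₂ τ (ι M.z) = 0) : w = 0 := by
  classical
  set kb := AlgebraicClosure k
  set S : Finset kb := (Finset.range (w.natDegree + 1)).biUnion fun n =>
    (Finset.range ((w.coeff n).natDegree + 1)).image fun j => (w.coeff n).coeff j
  set k' : IntermediateField k kb := IntermediateField.adjoin k (S : Set kb)
  haveI : FiniteDimensional k k' :=
    IntermediateField.finiteDimensional_adjoin fun a _ => Algebra.IsIntegral.isIntegral a
  haveI : Algebra.IsSeparable k k' := Algebra.IsAlgebraic.isSeparable_of_perfectField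
  have hmem : ∀ n j, (w.coeff n).coeff j ∈ k' := fun n j => by
    by_cases hn : n ∈ Finset.range (w.natDegree + 1)
    · by_cases hj : j ∈ Finset.range ((w.coeff n).natDegree + 1)
      · exact IntermediateField.subset_adjoin k _
          (Finset.mem_biUnion.2 ⟨n, hn, Finset.mem_image.2 ⟨j, hj, rfl⟩⟩)
      · rw [coeff_eq_zero_of_natDegree_lt (by simpa using hj)]; exact zero_mem _
    · rw [coeff_eq_zero_of_natDegree_lt (p := w) (by simpa using hn), coeff_zero]; exact zero_mem _
  -- the field `k' ⊗ K` embeds in `Ω`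
  letI : Algebra k Ω := (ι.comp (algebraMap k K)).toAlgebra
  let a : k' →ₐ[k] Ω :=
    { (τ.comp C).comp k'.val.toRingHom with commutes' := fun c => (hι c).symm }
  let b : K →ₐ[k] Ω := { ι with commutes' := fun _ => rfl }
  let ψ : k' ⊗[k] K →ₐ[k] Ω := Algebra.TensorProduct.lift a b fun _ _ => Commute.all _ _
  have hψ : Function.Injective ψ := by
    letI := (GeomFF26.isField_tensor hcl k').toField
    exact ψ.toRingHom.injective
  have hψt : ∀ c y, ψ (c ⊗ₜ[k] y) = τ (C (c : kb)) * ι y := fun c y => Algebra.TensorProduct.lift_tmul ..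
  -- expansion in a basis
  set B := Module.finBasis k k'
  let wi : Fin (Module.finrank k k') → k[X][X] := fun i => ∑ n ∈ Finset.range (w.natDegree + 1),
    C (∑ j ∈ Finset.range ((w.coeff n).natDegree + 1), C (B.repr ⟨_, hmem n j⟩ i) * X ^ j) * X ^ n
  have hsum : ∑ i, B i ⊗ₜ[k] (wi i).eval₂ (aeval M.x : k[X] →ₐ[k] K).toRingHom M.z =
      (0 : k' ⊗[k] K) := by
    apply hψ
    rw [map_zero, map_sum, ← h0, eval₂_eq_sum_range (p := w)]
    simp only [hψt, wi, eval₂_finsetSum, eval₂_mul, eval₂_C, eval₂_pow, eval₂_X, map_sum, map_mul, map_pow,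
      AlgHom.toRingHom_eq_coe, RingHom.coe_coe, aeval_C, aeval_X, hι, hιx, Finset.mul_sum, Finset.sum_mul]
    rw [Finset.sum_comm]
    refine Finset.sum_congr rfl fun n _ => ?_
    rw [Finset.sum_comm]
    conv_rhs => rw [(w.coeff n).as_sum_range_C_mul_X_pow, map_sum, Finset.sum_mul]
    refine Finset.sum_congr rfl fun j _ => ?_
    have e : (w.coeff n).coeff j = ∑ i, algebraMap k kb (B.repr ⟨_, hmem n j⟩ i) * (B i : kb) := by
      have := congrArg Subtype.val (B.sum_repr ⟨_, hmem n j⟩)
      simp only [IntermediateField.coe_sum, IntermediateField.coe_smul, Algebra.smul_def] at this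
      exact this.symm
    conv_rhs => rw [map_mul, map_pow, e, map_sum, map_sum, Finset.sum_mul, Finset.sum_mul]
    refine Finset.sum_congr rfl fun i _ => ?_
    rw [C_mul, map_mul]
    ring
  have hzero : ∀ i, (wi i).eval₂ (aeval M.x : k[X] →ₐ[k] K).toRingHom M.z = 0 := fun i => by
    have h1 := congrArg (fun t => TensorProduct.equivFinsuppOfBasisLeft B t i) hsum
    simpa [map_sum, Finsupp.single_apply, Finsupp.finsetSum_apply] using h1
  have hwi : ∀ i, wi i = 0 := fun i => by
    by_contra hne
    have hlt : (wi i).natDegree ≤ w.natDegree := natDegree_sum_le_of_forall_le _ _ fun n hn =>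
      (natDegree_C_mul_X_pow_le _ _).trans (by rw [Finset.mem_range] at hn; omega)
    have := natDegree_le_of_dvd (M.ker _ (hzero i)) hne
    omega
  refine Polynomial.ext fun n => Polynomial.ext fun j => ?_
  rw [coeff_zero, coeff_zero]
  by_cases hn : n ∈ Finset.range (w.natDegree + 1)
  swap
  · rw [coeff_eq_zero_of_natDegree_lt (p := w) (by simpa using hn), coeff_zero]
  by_cases hj : j ∈ Finset.range ((w.coeff n).natDegree + 1)
  swap
  · rw [coeff_eq_zero_of_natDegree_lt (by simpa using hj)]
  have hc : ∀ i, B.repr ⟨_, hmem n j⟩ i = 0 := fun i => by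
    have h1 := congrArg (fun p => (p.coeff n).coeff j) (hwi i)
    simp only [coeff_zero, wi, finsetSum_coeff, coeff_C_mul, coeff_X_pow, mul_ite, mul_one, mul_zero,
      Finset.sum_ite_eq, hn, hj, if_true] at h1
    exact h1
  have : (⟨_, hmem n j⟩ : k') = 0 := by
    rw [← B.sum_repr ⟨_, hmem n j⟩]
    simp [hc]
  exact congrArg Subtype.val this

end Groth.Agent.FunFldRH25
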