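import Groth.Agent.Lib.FunFldRH25.Euler
import Groth.Agent.Lib.FunField.Rational
import Mathlib.FieldTheory.PrimitiveElement
import Mathlib.FieldTheory.IsAlgClosed.Basic
import Mathlib.FieldTheory.Finite.Basic
import Mathlib.FieldTheory.Perfect

/-!
# Places and points of a plane model

For `K = k(x, z)` with `h₀(x, z) = 0`, pairs of a place and an embedding of its residue field in
`k̄` are compared with the pairs `(a, c)` with `h₀(a, c) = 0`.
-/

set_option autoImplicit false

namespace Groth.Agent.FunFldRH25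

open Polynomial FunFld FunField WithZero
open scoped Multiplicative IntermediateField

universe u v w

variable {k : Type u} {K : Type v} [Field k] [Field K] [Algebra k K]
variable (kb : Type w) [Field kb] [Algebra k kb]

variable (k K) in
/-- A place with an embedding of its residue field. -/
abbrev Pt : Type (max v w) :=
  (P : Place k K) × (IsLocalRing.ResidueField P.O →ₐ[k] kb)

variable {kb}

/-- The composite `O_P → k̄`. -/
noncomputable def Pt.ev (π : Pt k K kb) : π.1.O →ₐ[k] kb := π.2.comp (residueAlg π.1)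

open scoped Classical in
/-- The value of a function at a point (`0` at a pole). -/
noncomputable def Pt.val (π : Pt k K kb) (y : K) : kb :=
  if hy : π.1.1 y ≤ 1 then π.ev ⟨y, hy⟩ else 0

theorem Pt.val_eq (π : Pt k K kb) {y : K} (hy : π.1.1 y ≤ 1) : π.val y = π.ev ⟨y, hy⟩ := dif_pos hy

theorem Pt.ev_eq_zero (π : Pt k K kb) (y : π.1.O) : π.ev y = 0 ↔ π.1.1 (y : K) < 1 := by
  rw [Pt.ev, AlgHom.comp_apply, map_eq_zero_iff π.2 π.2.toRingHom.injective]
  exact residue_eq_zero_iff π.1 y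

theorem Pt.val_aeval (π : Pt k K kb) {x : K} (hx : π.1.1 x ≤ 1) (q : k[X]) :
    π.1.1 (aeval x q) ≤ 1 ∧ π.val (aeval x q) = aeval (π.val x) q := by
  refine ⟨val_aeval_le π.1 hx q, ?_⟩
  rw [π.val_eq (val_aeval_le π.1 hx q), π.val_eq hx, aeval_algHom_apply]
  refine congrArg π.ev (Subtype.ext ?_)
  have := aeval_algHom_apply (inclAlg π.1) ⟨x, hx⟩ q
  exact this

/-- Coefficientwise evaluation. -/
theorem Pt.eval₂_val (π : Pt k K kb) {x z : K} (hx : π.1.1 x ≤ 1) (hz : π.1.1 z ≤ 1) (w : k[X][X])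
    (h : w.eval₂ (aeval x : k[X] →ₐ[k] K).toRingHom z = 0) :
    w.eval₂ (aeval (π.val x) : k[X] →ₐ[k] kb).toRingHom (π.val z) = 0 := by
  have h1 : (π.1.O.subtype) (w.eval₂ (aeval (⟨x, hx⟩ : π.1.O) : k[X] →ₐ[k] π.1.O).toRingHom ⟨z, hz⟩) = 0 := by
    rw [hom_eval₂, ← h]
    congr 1
    exact RingHom.ext fun q => (aeval_algHom_apply (inclAlg π.1) (⟨x, hx⟩ : π.1.O) q).symm
  have h2 : w.eval₂ (aeval (⟨x, hx⟩ : π.1.O) : k[X] →ₐ[k] π.1.O).toRingHom ⟨z, hz⟩ = 0 := Subtype.ext h1
  have h3 := congrArg π.ev.toRingHom h2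
  rw [hom_eval₂, map_zero] at h3
  rw [π.val_eq hx, π.val_eq hz, ← h3]
  congr 1
  exact RingHom.ext fun q => aeval_algHom_apply π.ev _ q

theorem val_le_of_monic {x z : K} {h₀ : k[X][X]} (hm : h₀.Monic)
    (hroot : h₀.eval₂ (aeval x : k[X] →ₐ[k] K).toRingHom z = 0) (P : Place k K) (hx : P.1 x ≤ 1) :
    P.1 z ≤ 1 := by
  by_contra hz
  push Not at hz
  have hz0 : P.1 z ≠ 0 := (lt_trans zero_lt_one hz).ne'
  rw [eval₂_eq_sum_range, Finset.sum_range_succ, hm.coeff_natDegree, map_one, one_mul] at hroot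
  have h1 : P.1 (z ^ h₀.natDegree) ≤ P.1 z ^ h₀.natDegree * (P.1 z)⁻¹ := by
    rw [eq_neg_of_add_eq_zero_right hroot, Valuation.map_neg]
    refine Valuation.map_sum_le _ fun n hn => ?_
    rw [map_mul, map_pow]
    refine (mul_le_mul_left (val_aeval_le P hx _) _).trans ?_
    rw [one_mul, ← div_eq_mul_inv, le_div_iff₀ (lt_trans zero_lt_one hz), ← pow_succ]
    exact pow_le_pow_right₀ hz.le (Finset.mem_range.1 hn)
  rw [map_pow, ← div_eq_mul_inv, le_div_iff₀ (lt_trans zero_lt_one hz)] at h1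
  have h2 : P.1 z ≤ 1 := le_of_mul_le_mul_left (by rwa [mul_one]) (pow_pos (lt_trans zero_lt_one hz) _)
  exact absurd h2 (not_le.2 hz)

theorem finite_res (hF : FF k K) (P : Place k K) :
    @Module.Finite k (IsLocalRing.ResidueField P.O) _ _ (Algebra.toModule) :=
  hF.finite_residueField P

variable [IsAlgClosed kb]

/-- Every point of the plane model comes from a place. -/
theorem exists_point (hF : FF k K) [Algebra.IsAlgebraic k kb] {x z : K} {h₀ : k[X][X]}
    (hroot : h₀.eval₂ (aeval x : k[X] →ₐ[k] K).toRingHom z = 0)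
    (hker : ∀ w : k[X][X], w.eval₂ (aeval x : k[X] →ₐ[k] K).toRingHom z = 0 → h₀ ∣ w)
    {a c : kb} (hac : h₀.eval₂ (aeval a : k[X] →ₐ[k] kb).toRingHom c = 0) (hx : Transcendental k x) :
    ∃ π : Pt k K kb, π.1.1 x ≤ 1 ∧ π.1.1 z ≤ 1 ∧ π.val x = a ∧ π.val z = c := by
  classical
  let Φ : AdjoinRoot h₀ →+* K := AdjoinRoot.lift (aeval x : k[X] →ₐ[k] K).toRingHom z hroot
  let χ : AdjoinRoot h₀ →+* kb := AdjoinRoot.lift (aeval a : k[X] →ₐ[k] kb).toRingHom c hac
  have hΦ : Function.Injective Φ := by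
    rw [injective_iff_map_eq_zero]
    intro t ht
    obtain ⟨q, rfl⟩ := AdjoinRoot.mk_surjective t
    rw [AdjoinRoot.lift_mk] at ht
    exact AdjoinRoot.mk_eq_zero.2 (hker q ht)
  let e : AdjoinRoot h₀ ≃+* Φ.range := RingEquiv.ofBijective Φ.rangeRestrict
    ⟨fun s t h => hΦ (congrArg Subtype.val h), Φ.rangeRestrict_surjective⟩
  let χ' : Φ.range →+* kb := χ.comp e.symm.toRingHom
  have hne : RingHom.ker χ' ≠ ⊤ := RingHom.ker_ne_top _
  obtain ⟨V, hAV, hxV⟩ := Ideal.image_subset_nonunits_valuationSubring _ hne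
  have hmemV : ∀ t, Φ t ∈ V := fun t => hAV ⟨t, rfl⟩
  have hk : ∀ r : k, algebraMap k K r ∈ V := fun r => by
    have := hmemV (AdjoinRoot.of h₀ (C r))
    simpa [Φ, AdjoinRoot.lift_of] using this
  have hVF : ¬ IsField V := by
    intro hF'
    obtain ⟨w, hw0, hwV, hwn⟩ : ∃ w : K, w ≠ 0 ∧ w ∈ V ∧ w ∈ V.nonunits := by
      have haint : IsIntegral k a := Algebra.IsIntegral.isIntegral a
      refine ⟨aeval x (minpoly k a), fun e0 => hx ⟨_, minpoly.ne_zero haint, e0⟩, ?_, ?_⟩
      · have := hmemV (AdjoinRoot.of h₀ (minpoly k a))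
        simpa [Φ, AdjoinRoot.lift_of] using this
      · refine hxV ⟨e (AdjoinRoot.of h₀ (minpoly k a)), ?_, ?_⟩
        · rw [SetLike.mem_coe, RingHom.mem_ker]
          simp [χ', χ, AdjoinRoot.lift_of]
        · show Φ (AdjoinRoot.of h₀ (minpoly k a)) = _
          simp [Φ, AdjoinRoot.lift_of]
    obtain ⟨b, hb⟩ := hF'.mul_inv_cancel (a := (⟨w, hwV⟩ : V)) (fun e0 => hw0 (congrArg Subtype.val e0))
    rw [ValuationSubring.mem_nonunits_iff] at hwn
    have h1 : w * (b : K) = 1 := congrArg Subtype.val hb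
    have h2 := congrArg V.valuation h1
    rw [map_mul, map_one] at h2
    have h3 : V.valuation (b : K) ≤ 1 := (V.valuation_le_one_iff _).2 b.2
    have : V.valuation w * V.valuation (b : K) < 1 :=
      lt_of_le_of_lt (mul_le_of_le_one_right' h3) hwn
    exact absurd h2 this.ne
  obtain ⟨P, hP⟩ := hF.exists_place_of_valuationSubring V hk hVF
  haveI hfd := finite_res hF P
  -- the residual algebra map
  let Φa : AdjoinRoot h₀ →+* P.O := Φ.codRestrict P.O.toSubring fun t => by
    have := hmemV t; rw [← hP] at this; exact this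
  let ρ : AdjoinRoot h₀ →+* IsLocalRing.ResidueField P.O := (IsLocalRing.residue P.O).comp Φa
  have hkerle : ∀ t, χ t = 0 → ρ t = 0 := fun t ht => by
    have hm : Φ t ∈ V.nonunits := hxV ⟨e t, by
      rw [SetLike.mem_coe, RingHom.mem_ker]
      simpa [χ'] using ht, rfl⟩
    rw [← hP, ValuationSubring.mem_nonunits_iff] at hm
    refine (residue_eq_zero_iff P _).2 ?_
    show P.1 (Φ t) < 1
    exact (Valuation.isEquiv_valuation_valuationSubring P.1).lt_one_iff_lt_one.2 hm
  letI : Algebra k (AdjoinRoot h₀) := ((AdjoinRoot.of h₀).comp C).toAlgebra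
  have hχc : ∀ r : k, χ (algebraMap k (AdjoinRoot h₀) r) = algebraMap k kb r := fun r => by
    simp [RingHom.algebraMap_toAlgebra, χ, AdjoinRoot.lift_of]
  have hρc : ∀ r : k, ρ (algebraMap k (AdjoinRoot h₀) r) =
      algebraMap k (IsLocalRing.ResidueField P.O) r := fun r => by
    refine congrArg (IsLocalRing.residue P.O) (Subtype.ext ?_)
    show Φ (algebraMap k (AdjoinRoot h₀) r) = algebraMap k K r
    simp [RingHom.algebraMap_toAlgebra, Φ, AdjoinRoot.lift_of]
  let χA : AdjoinRoot h₀ →ₐ[k] kb := { χ with commutes' := hχc }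
  let ρA : AdjoinRoot h₀ →ₐ[k] IsLocalRing.ResidueField P.O := { ρ with commutes' := hρc }
  -- the image of `χ` is a field, mapping to the residue field
  haveI : Algebra.IsIntegral k χA.range := ⟨fun s => by
    have : IsIntegral k (s : kb) := Algebra.IsIntegral.isIntegral _
    exact (isIntegral_algHom_iff χA.range.val Subtype.val_injective).1 this⟩
  have hfield : IsField χA.range := isField_of_isIntegral_of_isField' (Field.toIsField k)
  let lift0 : χA.range →ₐ[k] IsLocalRing.ResidueField P.O :=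
    (Ideal.Quotient.liftₐ (RingHom.ker χA.toRingHom) ρA (fun t ht => hkerle t ht)).comp
      (Ideal.quotientKerEquivRange χA).symm.toAlgHom
  have hlift0 : ∀ t, lift0 ⟨χA t, t, rfl⟩ = ρA t := fun t => by
    have : (Ideal.quotientKerEquivRange χA).symm ⟨χA t, t, rfl⟩ = Ideal.Quotient.mk _ t := by
      rw [AlgEquiv.symm_apply_eq]; rfl
    simp only [lift0, AlgHom.comp_apply]
    erw [this]
    rfl
  let E : IntermediateField k kb := χA.range.toIntermediateField' hfield
  let lift1 : E →ₐ[k] IsLocalRing.ResidueField P.O :=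
    lift0.comp { toFun := fun s => ⟨s.1, s.2⟩, map_one' := rfl, map_mul' := fun _ _ => rfl,
                 map_zero' := rfl, map_add' := fun _ _ => rfl, commutes' := fun _ => rfl }
  letI : Algebra E (IsLocalRing.ResidueField P.O) := lift1.toRingHom.toAlgebra
  haveI : Algebra.IsAlgebraic E (IsLocalRing.ResidueField P.O) := ⟨fun t => by
    obtain ⟨m, hm0, hmt⟩ := (Algebra.IsAlgebraic.of_finite k (IsLocalRing.ResidueField P.O)).isAlgebraic t
    refine ⟨m.map (algebraMap k E), (Polynomial.map_ne_zero_iff (algebraMap k E).injective).2 hm0, ?_⟩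
    rw [aeval_def, eval₂_map, show (algebraMap E (IsLocalRing.ResidueField P.O)).comp (algebraMap k E) =
      algebraMap k _ from RingHom.ext lift1.commutes]
    exact hmt⟩
  let φ₁ : IsLocalRing.ResidueField P.O →ₐ[E] kb := IsAlgClosed.lift
  let φ : IsLocalRing.ResidueField P.O →ₐ[k] kb := { φ₁.toRingHom with
    commutes' := fun r => by
      rw [← lift1.commutes r]
      exact φ₁.commutes (algebraMap k E r) }
  have hφ : ∀ t, φ (ρA t) = χA t := fun t => by
    rw [← hlift0]
    exact φ₁.commutes (⟨χA t, t, rfl⟩ : E)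
  have hof : ∀ q : k[X], Φ (AdjoinRoot.of h₀ q) = aeval x q := fun q => AdjoinRoot.lift_of hroot
  have hxO : P.1 x ≤ 1 := by
    have := (Φa (AdjoinRoot.of h₀ X)).2
    rw [mem_O_iff] at this
    simpa [Φa, hof] using this
  have hzO : P.1 z ≤ 1 := by
    have := (Φa (AdjoinRoot.root h₀)).2
    rw [mem_O_iff] at this
    simpa [Φa, Φ, AdjoinRoot.lift_root] using this
  refine ⟨⟨P, φ⟩, hxO, hzO, ?_, ?_⟩
  · rw [Pt.val_eq _ hxO]
    refine Eq.trans ?_ ((hφ (AdjoinRoot.of h₀ X)).trans ?_)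
    · exact congrArg (fun y => φ (IsLocalRing.residue P.O y)) (Subtype.ext (by
        show x = Φ _; rw [hof, aeval_X]))
    · simp [χA, χ, AdjoinRoot.lift_of]
  · rw [Pt.val_eq _ hzO]
    refine Eq.trans ?_ ((hφ (AdjoinRoot.root h₀)).trans ?_)
    · exact congrArg (fun y => φ (IsLocalRing.residue P.O y)) (Subtype.ext (AdjoinRoot.lift_root hroot).symm)
    · exact AdjoinRoot.lift_root hac

variable [Finite k] [Algebra.IsAlgebraic k kb]

theorem finite_algHom (hF : FF k K) (P : Place k K) :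
    Finite (IsLocalRing.ResidueField P.O →ₐ[k] kb) ∧
      Nat.card (IsLocalRing.ResidueField P.O →ₐ[k] kb) = P.deg := by
  haveI := finite_res hF P
  haveI : Algebra.IsSeparable k (IsLocalRing.ResidueField P.O) := Algebra.IsAlgebraic.isSeparable_of_perfectField
  refine ⟨inferInstance, ?_⟩
  rw [Nat.card_eq_fintype_card, AlgHom.card]
  rfl

/-- The power of the Frobenius. -/
theorem exists_frob (n : ℕ) : ∃ F : kb →ₐ[k] kb, ∀ c, F c = c ^ Nat.card k ^ n := by
  letI := Fintype.ofFinite k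
  refine ⟨FiniteField.frobeniusAlgHom k kb ^ n, fun c => ?_⟩
  rw [AlgHom.coe_pow, FiniteField.coe_frobeniusAlgHom, pow_iterate, Nat.card_eq_fintype_card]

/-- The residue field is fixed exactly when the degree divides `n`. -/
theorem fixed_iff (hF : FF k K) (π : Pt k K kb) (n : ℕ) :
    (∀ y, π.2 y ^ Nat.card k ^ n = π.2 y) ↔ π.1.deg ∣ n := by
  haveI := finite_res hF π.1
  haveI := hF.finite_residueField π.1
  letI := Fintype.ofFinite k
  haveI : Finite (IsLocalRing.ResidueField π.1.O) := Module.finite_of_finite k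
  have hd : orderOf (FiniteField.frobeniusAlgHom k (IsLocalRing.ResidueField π.1.O)) = π.1.deg :=
    FiniteField.orderOf_frobeniusAlgHom k _
  rw [← hd, orderOf_dvd_iff_pow_eq_one, Nat.card_eq_fintype_card]
  constructor
  · intro h
    refine AlgHom.ext fun y => π.2.toRingHom.injective ?_
    rw [AlgHom.coe_pow, FiniteField.coe_frobeniusAlgHom, pow_iterate]
    show π.2 (y ^ Fintype.card k ^ n) = π.2 y
    rw [map_pow]; exact h y
  · intro h y
    have := DFunLike.congr_fun h y
    rw [AlgHom.coe_pow, FiniteField.coe_frobeniusAlgHom, pow_iterate, AlgHom.one_apply] at this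
    rw [← map_pow]; exact congrArg π.2 this

theorem card_pts (hF : FF k K) {n : ℕ} (hn : n ≠ 0) :
    Finite {π : Pt k K kb // π.1.deg ∣ n} ∧ Nat.card {π : Pt k K kb // π.1.deg ∣ n} = npts k K n := by
  classical
  haveI : Finite {P : Place k K // P.deg ∣ n} := (finite_dvd hF hn).to_subtype
  letI := Fintype.ofFinite {P : Place k K // P.deg ∣ n}
  haveI := fun P : Place k K => (finite_algHom (kb := kb) hF P).1
  let e : {π : Pt k K kb // π.1.deg ∣ n} ≃
      Σ P : {P : Place k K // P.deg ∣ n}, (IsLocalRing.ResidueField P.1.O →ₐ[k] kb) :=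
    { toFun := fun π => ⟨⟨π.1.1, π.2⟩, π.1.2⟩
      invFun := fun s => ⟨⟨s.1.1, s.2⟩, s.1.2⟩
      left_inv := fun _ => rfl
      right_inv := fun _ => rfl }
  refine ⟨Finite.of_equiv _ e.symm, ?_⟩
  rw [Nat.card_congr e, Nat.card_sigma, npts_eq_sum hF hn (finite_dvd hF hn).toFinset
    fun P hP => (finite_dvd hF hn).mem_toFinset.2 hP,
]
  conv_rhs => rw [Finset.sum_congr rfl (g := fun P : Place k K => P.deg) fun P hP =>
      if_pos (show P.deg ∣ n from (finite_dvd hF hn).mem_toFinset.1 hP)]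
  refine (Finset.sum_congr rfl fun P _ => (finite_algHom hF P.1).2).trans ?_
  exact (Finset.sum_subtype (finite_dvd hF hn).toFinset (fun P => (finite_dvd hF hn).mem_toFinset)
    (fun P : Place k K => P.deg)).symm

/-- Points of `k̄` on which `q` vanishes are few. -/
theorem card_zero_le (hF : FF k K) {x : K} (hx : Transcendental k x) {q : k[X]} (hq : q ≠ 0)
    (hqd : 1 ≤ q.natDegree) :
    Finite {π : Pt k K kb // π.1.1 x ≤ 1 ∧ π.1.1 (aeval x q) < 1} ∧
      Nat.card {π : Pt k K kb // π.1.1 x ≤ 1 ∧ π.1.1 (aeval x q) < 1} ≤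
        q.natDegree * Module.finrank k⟮x⟯ K := by
  classical
  set u := aeval x q with hu
  have hu0 : u ≠ 0 := aeval_ne_zero hx hq
  have hutr : Transcendental k u := hx.aeval q (by omega) (mem_nonZeroDivisors_of_ne_zero (leadingCoeff_ne_zero.2 hq))
  have hfin : {P : Place k K | P.1 x ≤ 1 ∧ P.1 u < 1}.Finite :=
    (finite_zeros hF u).subset fun P hP => (val_lt_one_iff' P hu0).1 hP.2
  haveI : Finite {P : Place k K // P.1 x ≤ 1 ∧ P.1 u < 1} := hfin.to_subtype
  letI := Fintype.ofFinite {P : Place k K // P.1 x ≤ 1 ∧ P.1 u < 1}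
  haveI := fun P : Place k K => (finite_algHom (kb := kb) hF P).1
  let e : {π : Pt k K kb // π.1.1 x ≤ 1 ∧ π.1.1 u < 1} ≃
      Σ P : {P : Place k K // P.1 x ≤ 1 ∧ P.1 u < 1}, (IsLocalRing.ResidueField P.1.O →ₐ[k] kb) :=
    { toFun := fun π => ⟨⟨π.1.1, π.2⟩, π.1.2⟩
      invFun := fun s => ⟨⟨s.1.1, s.2⟩, s.1.2⟩
      left_inv := fun _ => rfl
      right_inv := fun _ => rfl }
  refine ⟨Finite.of_equiv _ e.symm, ?_⟩
  rw [Nat.card_congr e, Nat.card_sigma, Finset.sum_congr rfl fun P _ => (finite_algHom hF P.1).2]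
  refine le_of_eq_of_le
    (Finset.sum_subtype hfin.toFinset (fun P => hfin.mem_toFinset) (fun P : Place k K => P.deg)).symm ?_
  -- bound by the degree of `u`
  have hpole : poleDiv (k := k) u = q.natDegree • poleDiv (k := k) x := by
    ext P
    rw [Finsupp.coe_smul, Pi.smul_apply, poleDiv_apply hF, poleDiv_apply hF]
    rcases lt_or_ge (P.ord x) 0 with hneg | hpos
    · have h1 : 1 < P.1 x := by
        rw [← not_le, ← ord_nonneg_iff]; omega
      have h2 := val_aeval_of_one_lt P h1 hq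
      have h3 : P.ord u = q.natDegree * P.ord x := by rw [← ord_pow]; simp [Place.ord, hu, h2]
      have h4 : (q.natDegree : ℤ) * P.ord x ≤ 0 := mul_nonpos_of_nonneg_of_nonpos (by omega) hneg.le
      rw [h3, nsmul_eq_mul, max_eq_left (by linarith), max_eq_left (by linarith)]
      ring
    · have : 0 ≤ P.ord u := (ord_nonneg_iff P u).2 (val_aeval_le P ((ord_nonneg_iff P x).1 hpos) q)
      rw [max_eq_right (by omega), max_eq_right (by omega), smul_zero]
  have hdeg : (Module.finrank k⟮u⟯ K : ℤ) = q.natDegree * Module.finrank k⟮x⟯ K := by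
    rw [← deg_poleDiv hF hutr, hpole, deg_smul, deg_poleDiv hF hx]
  have h1 := sum_ord_mul_deg_le hF hutr hfin.toFinset fun P hP => by
    obtain ⟨-, hP2⟩ := hfin.mem_toFinset.1 hP
    exact ((val_lt_one_iff' P hu0).1 hP2).le
  rw [hdeg] at h1
  have h2 : (∑ P ∈ hfin.toFinset, (P.deg : ℤ)) ≤ ∑ P ∈ hfin.toFinset, P.ord u * (P.deg : ℤ) :=
    Finset.sum_le_sum fun P hP => le_mul_of_one_le_left (Int.natCast_nonneg _) (by
      have := (val_lt_one_iff' P hu0).1 (hfin.mem_toFinset.1 hP).2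
      omega)
  exact_mod_cast h2.trans h1

end Groth.Agent.FunFldRH25
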